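import Mathlib

/-!
# The arithmetic of three strongly self-centralizing subgroups

The numerical conditions on `n₁ = 2a+1`, `n₂ = 4b+1`, `n₃ = 4c+1`, the order `|G| = n₁n₂n₃K` and the
number `n₁n₂n₃h` of involutions, when `k ≥ 1` irreducible characters vanish on the three subgroups,
have three solutions only (checked by evaluation).
-/

set_option autoImplicit false
set_option linter.style.haveILetI false
set_option maxHeartbeats 1000000

namespace Cfsg.Lib.ThreeCC.Arith

/-- One candidate `T` for `KQ = 4 + 4NT`. -/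
def checkT (k h a b c T : ℕ) : Bool :=
  let n1 := 2 * a + 1
  let n2 := 4 * b + 1
  let n3 := 4 * c + 1
  let N := n1 * n2 * n3
  let Q := 2 * (n2 * n3) + n1 * n3 + n1 * n2
  let K := (4 + 4 * (N * T)) / Q
  let M := a + b + c
  !((4 + 4 * (N * T)) % Q == 0 && K % 8 == 0 && Nat.blt (k * N) K && Nat.ble K (3 * N) &&
      Nat.ble (K * M) (N * (h * h)) && Nat.ble (N * (h * h)) (K * (M + 3 + k) + h) &&
      Nat.ble ((h - k) * (h - k) * N + k * (M + 4) * N) ((M + 4) * K)) ||
    (k == 1 && ((h == 4 && K == 1136) || (h == 5 && K == 3616) || (h == 7 && K == 12688)))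

/-- All `T` for one triple. -/
def checkTriple (k h a b c : ℕ) : Bool :=
  let n1 := 2 * a + 1
  let n2 := 4 * b + 1
  let n3 := 4 * c + 1
  if Nat.gcd n1 n2 == 1 && Nat.gcd n1 n3 == 1 && Nat.gcd n2 n3 == 1 then
    let N := n1 * n2 * n3
    let Q := 2 * (n2 * n3) + n1 * n3 + n1 * n2
    let M := a + b + c
    let lo := ((N * (h * h) - h) / (M + 3 + k) * Q - 4) / (4 * N)
    let hi := ((N * (h * h)) / M * Q) / (4 * N)
    (List.range (hi + 1 - lo)).all fun i => checkT k h a b c (lo + i)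
  else true

/-- All triples with the sum `M`. -/
def checkM (k h M : ℕ) : Bool :=
  (List.range (M + 1)).all fun a => (List.range (M + 1 - a)).all fun b =>
    if Nat.ble 2 a && Nat.ble 2 b && Nat.ble 2 (M - a - b) then checkTriple k h a b (M - a - b) else true

/-- All `M` for one pair `k, h`. -/
def checkH (k h : ℕ) : Bool :=
  (List.range 40).all fun M =>
    if Nat.ble 6 M && Nat.blt (k * M) (h * h) && Nat.ble (h * h) (3 * (M + 3 + k)) &&
        Nat.ble ((h - k) * (h - k) * M + k * M * (M + 4)) ((M + 4) * (h * h)) then checkM k h M else true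

theorem check_one : (List.range 12).all (checkH 1) = true := by decide +kernel

theorem check_two : (List.range 12).all (checkH 2) = true := by decide +kernel

/-- The numerical bounds. -/
theorem bounds {k h M : ℕ} (hk : k = 1 ∨ k = 2) (e1 : k * M < h * h) (e2 : h * h ≤ 3 * (M + 3 + k))
    (e3 : (h - k) * (h - k) * M + k * M * (M + 4) ≤ (M + 4) * (h * h)) : h < 12 ∧ M < 40 := by
  rcases Nat.lt_or_ge h k with hlt | hge
  · rcases hk with rfl | rfl <;> interval_cases h <;> omega
  obtain ⟨g, rfl⟩ : ∃ g, h = g + k := ⟨h - k, by omega⟩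
  rw [Nat.add_sub_cancel] at e3
  have hsm : M ≤ 2 * g + 10 ∨ M < 25 := by
    by_contra hcon
    push Not at hcon
    obtain ⟨x, hx⟩ : ∃ x, M = 2 * g + 11 + x := ⟨M - (2 * g + 11), by omega⟩
    rcases hk with rfl | rfl
    · have h1 : M * (M + 3) ≤ 2 * g * M + 12 * M + 48 := by linarith
      subst hx
      nlinarith
    · have h1 : 2 * M * M ≤ 4 * g * M + 12 * M + 60 := by linarith
      subst hx
      nlinarith
  have hg : g < 10 := by
    by_contra hc
    obtain ⟨x, rfl⟩ : ∃ x, g = 10 + x := ⟨g - 10, by omega⟩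
    rcases hk with rfl | rfl <;> rcases hsm with h' | h' <;> nlinarith
  exact ⟨by omega, by omega⟩

/-- The three numerical solutions. -/
theorem solutions {k h a b c K T : ℕ} (hk : k = 1 ∨ k = 2) (ha : 2 ≤ a) (hb : 2 ≤ b) (hc : 2 ≤ c)
    (g12 : Nat.gcd (2 * a + 1) (4 * b + 1) = 1) (g13 : Nat.gcd (2 * a + 1) (4 * c + 1) = 1)
    (g23 : Nat.gcd (4 * b + 1) (4 * c + 1) = 1)
    (h8 : 8 ∣ K) (hlo : k * ((2 * a + 1) * (4 * b + 1) * (4 * c + 1)) < K)
    (hhi : K ≤ 3 * ((2 * a + 1) * (4 * b + 1) * (4 * c + 1)))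
    (hT : K * (2 * ((4 * b + 1) * (4 * c + 1)) + (2 * a + 1) * (4 * c + 1) + (2 * a + 1) * (4 * b + 1))
      = 4 + 4 * ((2 * a + 1) * (4 * b + 1) * (4 * c + 1) * T))
    (hh : h < (2 * a + 1) * (4 * b + 1) * (4 * c + 1))
    (hM : K * (a + b + c) ≤ (2 * a + 1) * (4 * b + 1) * (4 * c + 1) * (h * h))
    (hM' : (2 * a + 1) * (4 * b + 1) * (4 * c + 1) * (h * h) ≤ K * (a + b + c + 3 + k) + h)
    (hF : (h - k) * (h - k) * ((2 * a + 1) * (4 * b + 1) * (4 * c + 1)) +
      k * (a + b + c + 4) * ((2 * a + 1) * (4 * b + 1) * (4 * c + 1)) ≤ (a + b + c + 4) * K) :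
    k = 1 ∧ ((h = 4 ∧ K = 1136) ∨ (h = 5 ∧ K = 3616) ∨ (h = 7 ∧ K = 12688)) := by
  set N := (2 * a + 1) * (4 * b + 1) * (4 * c + 1) with hN
  set Q := 2 * ((4 * b + 1) * (4 * c + 1)) + (2 * a + 1) * (4 * c + 1) + (2 * a + 1) * (4 * b + 1)
    with hQ
  set M := a + b + c with hMdef
  have hN0 : 0 < N := by positivity
  have hQ0 : 0 < Q := by positivity
  have hM6 : 6 ≤ M := by omega
  -- the bounds on `M` and `h`
  have e1 : k * M < h * h := by
    have h1 : k * N * M < N * (h * h) := lt_of_lt_of_le (Nat.mul_lt_mul_of_pos_right hlo (by omega)) hM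
    exact lt_of_mul_lt_mul_left (a := N) (by linarith) (Nat.zero_le _)
  have e2 : h * h ≤ 3 * (M + 3 + k) := by
    have h1 : K * (M + 3 + k) ≤ 3 * N * (M + 3 + k) := Nat.mul_le_mul_right _ hhi
    have h2 : N * (h * h) < N * (3 * (M + 3 + k) + 1) := by
      rw [Nat.mul_add, Nat.mul_one]
      calc N * (h * h) ≤ K * (M + 3 + k) + h := hM'
        _ < 3 * N * (M + 3 + k) + N := by omega
        _ = N * (3 * (M + 3 + k)) + N := by ring
    have := Nat.lt_of_mul_lt_mul_left h2
    omega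
  have e3 : (h - k) * (h - k) * M + k * M * (M + 4) ≤ (M + 4) * (h * h) := by
    have h1 := Nat.mul_le_mul_right M hF
    have h2 := Nat.mul_le_mul_left (M + 4) hM
    refine Nat.le_of_mul_le_mul_right (c := N) ?_ hN0
    calc ((h - k) * (h - k) * M + k * M * (M + 4)) * N
        = ((h - k) * (h - k) * N + k * (M + 4) * N) * M := by ring
      _ ≤ (M + 4) * K * M := h1
      _ = (M + 4) * (K * M) := by ring
      _ ≤ (M + 4) * (N * (h * h)) := h2
      _ = (M + 4) * (h * h) * N := by ring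
  have hb12 : h < 12 ∧ M < 40 := bounds hk e1 e2 e3
  -- the evaluation
  have hall : checkH k h = true := by
    rcases hk with rfl | rfl
    · exact List.all_eq_true.1 check_one h (List.mem_range.2 hb12.1)
    · exact List.all_eq_true.1 check_two h (List.mem_range.2 hb12.1)
  have hcM : checkM k h M = true := by
    have h1 := List.all_eq_true.1 hall M (List.mem_range.2 hb12.2)
    have hc : (Nat.ble 6 M && Nat.blt (k * M) (h * h) && Nat.ble (h * h) (3 * (M + 3 + k)) &&
        Nat.ble ((h - k) * (h - k) * M + k * M * (M + 4)) ((M + 4) * (h * h))) = true := by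
      simp only [Bool.and_eq_true, Nat.ble_eq, Nat.blt_eq]
      exact ⟨⟨⟨hM6, e1⟩, e2⟩, e3⟩
    rwa [if_pos hc] at h1
  have hct : checkTriple k h a b c = true := by
    have h1 := List.all_eq_true.1 (List.all_eq_true.1 hcM a (List.mem_range.2 (by omega))) b
      (List.mem_range.2 (by omega))
    have hc' : M - a - b = c := by omega
    rw [hc'] at h1
    rwa [if_pos (by simp [Nat.ble_eq, ha, hb, hc])] at h1
  have hK : (4 + 4 * (N * T)) / Q = K := by
    rw [← hT, Nat.mul_div_cancel _ hQ0]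
  have hT1 : ((N * (h * h) - h) / (M + 3 + k) * Q - 4) / (4 * N) ≤ T := by
    have h1 : (N * (h * h) - h) / (M + 3 + k) ≤ K :=
      Nat.div_le_of_le_mul (by rw [mul_comm (M + 3 + k) K]; exact Nat.sub_le_iff_le_add.2 hM')
    refine Nat.div_le_of_le_mul ?_
    calc (N * (h * h) - h) / (M + 3 + k) * Q - 4 ≤ K * Q - 4 :=
          Nat.sub_le_sub_right (Nat.mul_le_mul_right _ h1) 4
      _ = 4 * N * T := by rw [hT]; rw [Nat.add_sub_cancel_left]; ring
  have hT2 : T ≤ (N * (h * h)) / M * Q / (4 * N) := by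
    have h1 : K ≤ (N * (h * h)) / M := (Nat.le_div_iff_mul_le (by omega)).2 hM
    refine (Nat.le_div_iff_mul_le (by positivity)).2 ?_
    calc T * (4 * N) ≤ 4 + 4 * (N * T) := by
          rw [show T * (4 * N) = 4 * (N * T) by ring]; omega
      _ = K * Q := hT.symm
      _ ≤ (N * (h * h)) / M * Q := Nat.mul_le_mul_right _ h1
  simp only [checkTriple] at hct
  rw [if_pos (by simp [g12, g13, g23])] at hct
  have h1 := List.all_eq_true.1 hct (T - ((N * (h * h) - h) / (M + 3 + k) * Q - 4) / (4 * N))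
    (List.mem_range.2 (by
      have key : ∀ lo hi : ℕ, lo ≤ T → T ≤ hi → T - lo < hi + 1 - lo := fun lo hi h1 h2 => by omega
      exact key _ _ hT1 hT2))
  rw [Nat.add_sub_cancel' hT1] at h1
  simp only [checkT, ← hN, ← hQ, ← hMdef, hK] at h1
  simp only [Bool.or_eq_true, Bool.not_eq_true', Bool.and_eq_false_iff, Bool.and_eq_true,
    beq_eq_false_iff_ne, beq_iff_eq, Nat.blt_eq, Nat.ble_eq] at h1
  rcases h1 with h1 | h1
  · exfalso
    rcases h1 with (((((h1 | h1) | h1) | h1) | h1) | h1) | h1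
    · exact h1 (by rw [← hT, Nat.mul_mod_left])
    · exact h1 (Nat.mod_eq_zero_of_dvd h8)
    all_goals
      rw [Bool.eq_false_iff] at h1
      apply h1
    · rw [Nat.blt_eq]; exact hlo
    · rw [Nat.ble_eq]; exact hhi
    · rw [Nat.ble_eq]; exact hM
    · rw [Nat.ble_eq]; exact hM'
    · rw [Nat.ble_eq]; exact hF
  · obtain ⟨h2, h3⟩ := h1
    exact ⟨h2, by tauto⟩

end Cfsg.Lib.ThreeCC.Arith
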