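import Cfsg.Agent.Lib.Char.CAEven

/-!
# The column of a strongly self-centralizing abelian subgroup in the character table
-/

set_option autoImplicit false
set_option linter.unusedSectionVars false
set_option linter.style.haveILetI false
set_option maxHeartbeats 1000000

namespace Cfsg.Lib.ThreeCC

open Cfsg Cfsg.Lib.Char Cfsg.Lib.Char.CAEven Cfsg.Lib.Local.CNNode Subgroup
open scoped ComplexConjugate

universe u

variable {G : Type u} [Group G] [Fintype G]

/-- The exceptional family of `A`, the values of the other characters on `A`, and the norms. -/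
structure Fam (A : Subgroup G) (e : ℕ) where
  /-- The exceptional characters. -/
  F : Finset (IrrCharacter G)
  /-- Their sign. -/
  ε : ℤ
  /-- Their constant. -/
  c : ℤ
  /-- The constant value of another character. -/
  val : IrrCharacter G → ℤ
  hε : ε = 1 ∨ ε = -1
  card_eq : e * F.card + 1 = Nat.card A
  out : ∀ χ, χ ∉ F → ∀ k ∈ A, k ≠ 1 → (χ : G → ℂ) k = (val χ : ℂ)
  sumF : ∀ k ∈ A, k ≠ 1 → ∑ χ ∈ F, (χ : G → ℂ) k = ((-ε + F.card * c : ℤ) : ℂ)
  sumSq : ∑ χ ∈ (Finset.univ : Finset (IrrCharacter G)).filter (fun χ => χ ∉ F), val χ ^ 2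
    = (e : ℤ) + 2 * ε * c - F.card * c ^ 2
  diff : ∀ χ ∈ F, ∀ χ' ∈ F, ∀ l : G, (∀ g : G, g * l * g⁻¹ ∈ A → g * l * g⁻¹ = 1) → l ≠ 1 →
    (χ : G → ℂ) l = (χ' : G → ℂ) l
  distinct : ∀ χ ∈ F, ∀ χ' ∈ F, χ ≠ χ' → ∃ k ∈ A, k ≠ 1 ∧ (χ : G → ℂ) k ≠ (χ' : G → ℂ) k
  nonconst : ∀ χ ∈ F, ∀ v : ℂ, ∃ k ∈ A, k ≠ 1 ∧ (χ : G → ℂ) k ≠ v

variable {A : Subgroup G}

/-- A generalized character of an abelian group with equal coefficients at the non-principal
linear characters is a constant integer off `1`. -/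
theorem const_of_coef (hA : IsCA A) [Fintype A] {Φ : A → ℂ} (hΦ : IsGeneralizedCharacter A Φ)
    (h : ∀ μ ν : NT A, classInner (fun k : A => (μ.1 k : ℂ)) Φ = classInner (fun k : A => (ν.1 k : ℂ)) Φ) :
    ∃ z : ℤ, ∀ k : A, k ≠ 1 → Φ k = (z : ℂ) := by
  classical
  have hlin : ∀ l : IrrCharacter A, ∃ f : A →* ℂˣ, ∀ k, (l : A → ℂ) k = (f k : ℂ) := by
    intro l
    obtain ⟨f, hf⟩ := exists_hom_of_degree_one l.2.isCharacter
      (degree_eq_one_of_comm (fun a b => Subtype.ext (hA.comm a a.2 b b.2)) l.2)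
    exact ⟨f, fun k => congrFun hf k⟩
  have hint : ∀ f : A →* ℂˣ, ∃ n : ℤ, classInner (fun k : A => (f k : ℂ)) Φ = n := fun f =>
    (isIrrCharacter_linear f).isGeneralized.exists_int_classInner hΦ
  obtain ⟨n₀, hn₀⟩ := hint 1
  obtain ⟨n₁, hn₁⟩ : ∃ n : ℤ, ∀ μ : NT A, classInner (fun k : A => (μ.1 k : ℂ)) Φ = n := by
    by_cases hex : Nonempty (NT A)
    · obtain ⟨μ₀⟩ := hex
      obtain ⟨n, hn⟩ := hint μ₀.1
      exact ⟨n, fun μ => (h μ μ₀).trans hn⟩
    · exact ⟨0, fun μ => absurd ⟨μ⟩ hex⟩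
  refine ⟨n₀ - n₁, fun k hk => ?_⟩
  have hcl : IsClassFunction A Φ := hΦ.isClassFunction
  have h1 := congrFun (eq_sum_classInner hcl) k
  let one : IrrCharacter A := ⟨fun _ => 1, isIrrCharacter_one⟩
  have hl : ∀ l : IrrCharacter A, classInner Φ (l : A → ℂ) =
      (n₁ : ℂ) + if l = one then ((n₀ : ℂ) - n₁) else 0 := by
    intro l
    obtain ⟨f, hf⟩ := hlin l
    rw [show (l : A → ℂ) = fun k => (f k : ℂ) from funext hf, ← classInner_conj_symm]
    by_cases hf1 : f = 1
    · rw [if_pos (Subtype.ext (funext fun k => by rw [hf, hf1]; rfl)), hf1, hn₀, map_intCast]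
      ring
    · rw [if_neg, hn₁ ⟨f, hf1⟩, map_intCast, add_zero]
      intro e
      apply hf1
      refine MonoidHom.ext fun k => Units.ext ?_
      rw [← hf, e]; rfl
  rw [Finset.sum_apply] at h1
  simp only [Pi.smul_apply, smul_eq_mul, hl, add_mul, Finset.sum_add_distrib, ← Finset.mul_sum,
    ite_mul, zero_mul, Finset.sum_ite_eq', Finset.mem_univ, if_true] at h1
  have h3 : ∑ l : IrrCharacter A, (l : A → ℂ) k = 0 := by
    have h4 := column_orthogonality (G := A) k 1
    rw [if_neg (fun e => hk (isConj_one_left.mp e))] at h4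
    refine (Finset.sum_congr rfl fun l _ => ?_).trans h4
    obtain ⟨f, hf⟩ := hlin l
    rw [hf 1, map_one, Units.val_one, map_one, mul_one]
  rw [h1, h3, mul_zero, zero_add]
  push_cast
  show ((n₀ : ℂ) - n₁) * 1 = _
  ring

open Classical in
/-- The sum over the orbits. -/
theorem sum_psi (hA : IsCA A) [Fintype A] [Fintype (normalizer (A : Set G))] [Fintype (Orb A)] (k : A) :
    ∑ i : Orb A, psi A i.out.1 k = (if k = 1 then (Nat.card A : ℂ) else 0) - 1 := by
  classical
  have hlin : ∀ l : IrrCharacter A, ∃ f : A →* ℂˣ, ∀ k, (l : A → ℂ) k = (f k : ℂ) := by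
    intro l
    obtain ⟨f, hf⟩ := exists_hom_of_degree_one l.2.isCharacter
      (degree_eq_one_of_comm (fun a b => Subtype.ext (hA.comm a a.2 b b.2)) l.2)
    exact ⟨f, fun k => congrFun hf k⟩
  set Ψ : A → ℂ := fun k => ∑ i : Orb A, psi A i.out.1 k with hΨ
  have hcl : IsClassFunction A Ψ := by
    intro a b
    rw [show b * a * b⁻¹ = a by
      rw [show b * a = a * b from Subtype.ext (hA.comm b b.2 a a.2), mul_inv_cancel_right]]
  let one : IrrCharacter A := ⟨fun _ => 1, isIrrCharacter_one⟩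
  have hl : ∀ l : IrrCharacter A, classInner Ψ (l : A → ℂ) = 1 - if l = one then (1 : ℂ) else 0 := by
    intro l
    obtain ⟨f, hf⟩ := hlin l
    rw [show (l : A → ℂ) = fun k => (f k : ℂ) from funext hf, ← classInner_conj_symm,
      show Ψ = ∑ i : Orb A, psi A i.out.1 from funext fun k => (Finset.sum_apply k _ _).symm,
      classInner_sum_right]
    simp only [inner_psi hA]
    by_cases hf1 : f = 1
    · rw [if_pos (Subtype.ext (funext fun k => by rw [hf, hf1]; rfl)),
        Finset.sum_eq_zero fun i _ => if_neg ?_, map_zero, sub_self]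
      rintro ⟨x, hx⟩
      refine i.out.2 ?_
      have h1 : cj A x⁻¹ (cj A x i.out.1) = i.out.1 := by rw [← cj_mul, mul_inv_cancel, cj_one]
      rw [← h1, hx, hf1]
      exact MonoidHom.ext fun _ => rfl
    · rw [if_neg (fun e => hf1 (MonoidHom.ext fun k => Units.ext (by rw [← hf, e]; rfl))), sub_zero,
        Finset.sum_eq_single (⟦⟨f, hf1⟩⟧ : Orb A), if_pos, map_one]
      · have hq : (⟦⟨f, hf1⟩⟧ : Orb A).out ≈ (⟨f, hf1⟩ : NT A) :=
          Quotient.exact (Quotient.out_eq (⟦⟨f, hf1⟩⟧ : Orb A))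
        exact hq
      · intro i _ hi
        refine if_neg fun hx => hi ?_
        rw [← Quotient.out_eq i]
        exact Quotient.sound (show i.out ≈ (⟨f, hf1⟩ : NT A) from hx)
      · intro h; exact absurd (Finset.mem_univ _) h
  have h1 := congrFun (eq_sum_classInner hcl) k
  rw [Finset.sum_apply] at h1
  simp only [Pi.smul_apply, smul_eq_mul, hl, sub_mul, one_mul, Finset.sum_sub_distrib, ite_mul, zero_mul,
    Finset.sum_ite_eq', Finset.mem_univ, if_true] at h1
  have h3 : ∑ l : IrrCharacter A, (l : A → ℂ) k = if k = 1 then (Nat.card A : ℂ) else 0 := by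
    have h4 := column_orthogonality (G := A) k 1
    have h5 : IsConj k 1 ↔ k = 1 := isConj_one_left
    have h6 : ∑ l : IrrCharacter A, (l : A → ℂ) k =
        ∑ l : IrrCharacter A, (l : A → ℂ) k * conj ((l : A → ℂ) 1) :=
      Finset.sum_congr rfl fun l _ => by
        obtain ⟨f, hf⟩ := hlin l
        rw [hf 1, map_one, Units.val_one, map_one, mul_one]
    rw [h6, h4]
    by_cases hk : k = 1
    · rw [if_pos (h5.2 hk), if_pos hk]
      subst hk
      congr 1
      rw [show Subgroup.centralizer ({(1 : A)} : Set A) = ⊤ from eq_top_iff.2 fun a _ =>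
        mem_centralizer_singleton_iff.2 (by simp), Subgroup.card_top]
    · rw [if_neg (fun e => hk (h5.1 e)), if_neg hk]
  rw [show (∑ i : Orb A, psi A i.out.1 k) = Ψ k from rfl, h1, h3]

/-- The family of `A`. -/
theorem exists_fam (hA : IsCA A) {e : ℕ} (he : A.relIndex (normalizer (A : Set G)) = e)
    (hn : e + 1 < Nat.card A) : Nonempty (Fam A e) := by
  classical
  haveI := Fintype.ofFinite A
  haveI := Fintype.ofFinite (normalizer (A : Set G))
  haveI : Fintype (Orb A) := Fintype.ofFinite _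
  set n := Nat.card A with hn'
  have hn0 : (n : ℂ) ≠ 0 := Nat.cast_ne_zero.mpr Nat.card_pos.ne'
  have hNe : Nat.card (normalizer (A : Set G)) = n * e := by
    rw [← he, hn', ← Subgroup.relIndex_bot_left, mul_comm, ← Subgroup.relIndex_bot_left,
      mul_comm, Subgroup.relIndex_mul_relIndex _ _ _ bot_le le_normalizer]
  have hψ1 : ∀ μ : A →* ℂˣ, psi A μ 1 = (e : ℂ) := by
    intro μ
    rw [psi_one, hNe, ← hn']
    push_cast
    rw [← mul_assoc, inv_mul_cancel₀ hn0, one_mul]
  -- the number of orbits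
  have hm : e * Fintype.card (Orb A) + 1 = n := by
    have h1 := sum_psi hA (1 : A)
    simp only [hψ1, Finset.sum_const, Finset.card_univ, if_true, nsmul_eq_mul] at h1
    rw [← hn', eq_sub_iff_add_eq] at h1
    rw [mul_comm]
    exact_mod_cast h1
  have hm2 : 2 ≤ Fintype.card (Orb A) := by
    by_contra hc
    have : e * Fintype.card (Orb A) ≤ e * 1 := Nat.mul_le_mul_left _ (by omega)
    omega
  have hNT : Nonempty (Orb A) := Fintype.card_pos_iff.1 (by omega)
  obtain ⟨i₀⟩ := hNT
  obtain ⟨ε', X, c, hε', hX, hbeta, hval⟩ := exists_exceptional hA i₀.out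
  obtain ⟨ε, hε, rfl⟩ : ∃ ε : ℤ, (ε = 1 ∨ ε = -1) ∧ ε' = (ε : ℂ) := by
    rcases hε' with rfl | rfl
    · exact ⟨1, Or.inl rfl, by simp⟩
    · exact ⟨-1, Or.inr rfl, by simp⟩
  have hεε : (ε : ℂ) * ε = 1 := by rcases hε with rfl | rfl <;> norm_num
  have hεc : conj (ε : ℂ) = ε := map_intCast _ ε
  have hvalX : ∀ (i : Orb A) (k : A), k ≠ 1 → X i (k : G) = (ε : ℂ) * psi A i.out.1 k + c := by
    intro i k hk
    have := hval i.out k hk
    rwa [Quotient.out_eq] at this
  have hinner : ∀ i : Orb A, classInner (fun k : A => (i.out.1 k : ℂ)) (psi A i.out.1) = 1 := by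
    intro i
    rw [inner_psi hA, if_pos ⟨1, cj_one A _⟩]
  have hinner0 : ∀ i j : Orb A, i ≠ j → classInner (fun k : A => (i.out.1 k : ℂ)) (psi A j.out.1) = 0 := by
    intro i j hij
    rw [inner_psi hA, if_neg]
    intro hx
    refine hij ?_
    rw [← Quotient.out_eq i, ← Quotient.out_eq j]
    exact (Quotient.sound (show j.out ≈ i.out from hx)).symm
  -- the members are distinct already on `A`
  have hdist : ∀ i j : Orb A, i ≠ j → ∃ k : A, k ≠ 1 ∧ X i (k : G) ≠ X j (k : G) := by
    intro i j hij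
    by_contra hcon
    push Not at hcon
    have heq : psi A i.out.1 = psi A j.out.1 := by
      funext k
      by_cases hk : k = 1
      · rw [hk, hψ1, hψ1]
      · have h1 := hcon k hk
        rw [hvalX i k hk, hvalX j k hk, add_left_inj] at h1
        exact mul_left_cancel₀ (by intro h0; rw [h0, zero_mul] at hεε; exact zero_ne_one hεε) h1
    have h1 := hinner i
    rw [heq, hinner0 i j hij] at h1
    exact zero_ne_one h1
  let F : Finset (IrrCharacter G) := Finset.univ.image fun i => ⟨X i, hX i⟩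
  have hinj : Function.Injective fun i : Orb A => (⟨X i, hX i⟩ : IrrCharacter G) := by
    intro i j h
    by_contra hij
    obtain ⟨k, -, hk⟩ := hdist i j hij
    exact hk (congrFun (congrArg Subtype.val h) _)
  have hFc : F.card = Fintype.card (Orb A) := by
    rw [Finset.card_image_of_injective _ hinj, Finset.card_univ]
  have hFm : ∀ {χ : IrrCharacter G}, χ ∈ F → ∃ i, (χ : G → ℂ) = X i := by
    intro χ h
    obtain ⟨i, -, rfl⟩ := Finset.mem_image.1 h
    exact ⟨i, rfl⟩
  -- the other characters are constant on `A`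
  have hout : ∀ χ : IrrCharacter G, ∃ z : ℤ, χ ∉ F → ∀ k ∈ A, k ≠ 1 → (χ : G → ℂ) k = (z : ℂ) := by
    intro χ
    by_cases hχ : χ ∈ F
    · exact ⟨0, fun h => absurd hχ h⟩
    have hne : ∀ i, (χ : G → ℂ) ≠ X i := fun i h =>
      hχ (Finset.mem_image.2 ⟨i, Finset.mem_univ _, Subtype.ext h.symm⟩)
    obtain ⟨z, hz⟩ := const_of_coef hA (χ.2.isGeneralized.comp A.subtype : IsGeneralizedCharacter A _)
      (fun μ ν => by
        have h1 := classInner_indFun A (fun k : A => (μ.1 k : ℂ) - (ν.1 k : ℂ)) χ.2.isClassFunction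
        rw [show indFun A (fun k : A => (μ.1 k : ℂ) - (ν.1 k : ℂ)) = CAEven.beta A μ.1 ν.1 from rfl, hbeta,
          classInner_smul_left, classInner_sub_left, classInner_irr_ne (hX _) χ.2 (hne _).symm,
          classInner_irr_ne (hX _) χ.2 (hne _).symm, sub_zero, mul_zero,
          show (fun k : A => (μ.1 k : ℂ) - (ν.1 k : ℂ)) =
            (fun k : A => (μ.1 k : ℂ)) - fun k : A => (ν.1 k : ℂ) from rfl, classInner_sub_left] at h1
        exact sub_eq_zero.1 h1.symm)
    exact ⟨z, fun _ k hk hk1 => hz ⟨k, hk⟩ fun e => hk1 (congrArg Subtype.val e)⟩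
  choose val hval' using hout
  have hsumF : ∀ k : A, k ≠ 1 → ∑ χ ∈ F, (χ : G → ℂ) k = ((-ε + F.card * c : ℤ) : ℂ) := by
    intro k hk
    rw [Finset.sum_image fun a _ b _ h => hinj h, Finset.sum_congr rfl fun i _ => hvalX i k hk,
      Finset.sum_add_distrib, ← Finset.mul_sum, sum_psi hA, if_neg hk, Finset.sum_const, hFc,
      Finset.card_univ, nsmul_eq_mul]
    push_cast
    ring
  -- the norm
  have hcol : ∀ k : A, k ≠ 1 →
      ∑ χ : IrrCharacter G, (χ : G → ℂ) k * conj ((χ : G → ℂ) k) = (n : ℂ) := by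
    intro k hk
    rw [column_orthogonality, if_pos (IsConj.refl _), hA.cent k k.2 fun e => hk (Subtype.ext e)]
  have hpsisum : ∀ i : Orb A, ∑ k ∈ (Finset.univ : Finset A).erase 1, psi A i.out.1 k = -(e : ℂ) := by
    intro i
    have h1 : classInner (fun k : A => ((1 : A →* ℂˣ) k : ℂ)) (psi A i.out.1) = 0 := by
      rw [inner_psi hA, if_neg]
      rintro ⟨x, hx⟩
      refine i.out.2 ?_
      have h1 : cj A x⁻¹ (cj A x i.out.1) = i.out.1 := by rw [← cj_mul, mul_inv_cancel, cj_one]
      rw [← h1, hx]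
      exact MonoidHom.ext fun _ => rfl
    rw [classInner, mul_eq_zero] at h1
    have h2 := h1.resolve_left (inv_ne_zero (by exact_mod_cast Nat.card_pos.ne'))
    have h3 : ∑ k : A, psi A i.out.1 k = 0 := by
      have := congrArg conj h2
      simpa [map_sum] using this
    rw [← Finset.add_sum_erase _ _ (Finset.mem_univ (1 : A)), hψ1] at h3
    linear_combination h3
  have hpsinorm : ∀ i : Orb A,
      ∑ k ∈ (Finset.univ : Finset A).erase 1, psi A i.out.1 k * conj (psi A i.out.1 k) =
        (n : ℂ) * e - (e : ℂ) ^ 2 := by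
    intro i
    have h1 : classInner (psi A i.out.1) (psi A i.out.1) = (e : ℂ) := by
      have e1 : psi A i.out.1 = (Nat.card A : ℂ)⁻¹ •
          ∑ x : normalizer (A : Set G), (fun k : A => (cj A x i.out.1 k : ℂ)) := by
        funext k
        simp [psi]
      conv_lhs => arg 1; rw [e1]
      rw [classInner_smul_left, classInner_sum_left]
      have h2 : ∀ x : normalizer (A : Set G),
          classInner (fun k : A => (cj A x i.out.1 k : ℂ)) (psi A i.out.1) = 1 := by
        intro x
        rw [inner_psi hA, if_pos ⟨x, rfl⟩]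
      rw [Finset.sum_congr rfl fun x _ => h2 x, Finset.sum_const, Finset.card_univ,
        ← Nat.card_eq_fintype_card, hNe, nsmul_eq_mul, ← hn']
      push_cast
      rw [mul_one, ← mul_assoc, inv_mul_cancel₀ hn0, one_mul]
    rw [classInner, ← hn', inv_mul_eq_iff_eq_mul₀ hn0,
      ← Finset.add_sum_erase _ _ (Finset.mem_univ (1 : A)), hψ1, Complex.conj_natCast] at h1
    linear_combination h1
  have hnorm : ∀ i : Orb A, ∑ k ∈ (Finset.univ : Finset A).erase 1, X i (k : G) * conj (X i (k : G)) =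
      (n : ℂ) * e - (e : ℂ) ^ 2 - 2 * ε * c * e + (c : ℂ) ^ 2 * ((n : ℂ) - 1) := by
    intro i
    have h1 : ∑ k ∈ (Finset.univ : Finset A).erase 1, X i (k : G) * conj (X i (k : G)) =
        ∑ k ∈ (Finset.univ : Finset A).erase 1, (psi A i.out.1 k * conj (psi A i.out.1 k)
          + (ε : ℂ) * c * psi A i.out.1 k + (ε : ℂ) * c * conj (psi A i.out.1 k) + (c : ℂ) ^ 2) := by
      refine Finset.sum_congr rfl fun k hk => ?_
      rw [hvalX i k (Finset.mem_erase.1 hk).1, map_add, map_mul, hεc, map_intCast]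
      linear_combination (psi A i.out.1 k * conj (psi A i.out.1 k)) * hεε
    rw [h1, Finset.sum_add_distrib, Finset.sum_add_distrib, Finset.sum_add_distrib, hpsinorm,
      ← Finset.mul_sum, ← Finset.mul_sum, hpsisum, ← map_sum conj, hpsisum, map_neg, Complex.conj_natCast,
      Finset.sum_const, Finset.card_erase_of_mem (Finset.mem_univ _), Finset.card_univ,
      ← Nat.card_eq_fintype_card, ← hn', nsmul_eq_mul, Nat.cast_sub (by omega)]
    push_cast
    ring
  refine ⟨⟨F, ε, c, val, hε, by rw [hFc]; exact hm, fun χ hχ => hval' χ hχ,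
    fun k hk hk1 => hsumF ⟨k, hk⟩ fun e => hk1 (congrArg Subtype.val e), ?_, ?_, ?_, ?_⟩⟩
  · -- sum of squares
    have h1 : ∑ k ∈ (Finset.univ : Finset A).erase 1,
        ∑ χ : IrrCharacter G, (χ : G → ℂ) k * conj ((χ : G → ℂ) k) = ((n : ℂ) - 1) * n := by
      rw [Finset.sum_congr rfl fun k hk => hcol k (Finset.mem_erase.1 hk).1, Finset.sum_const,
        Finset.card_erase_of_mem (Finset.mem_univ _), Finset.card_univ, ← Nat.card_eq_fintype_card,
        ← hn', nsmul_eq_mul, Nat.cast_sub (by omega), Nat.cast_one]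
    rw [Finset.sum_comm, ← Finset.sum_filter_add_sum_filter_not Finset.univ (fun χ => χ ∈ F),
      Finset.filter_mem_eq_inter, Finset.univ_inter, Finset.sum_image fun a _ b _ h => hinj h,
      Finset.sum_congr rfl fun i _ => hnorm i, Finset.sum_const, Finset.card_univ,
      Finset.sum_congr rfl (g := fun χ => ((val χ : ℂ) ^ 2 * ((n : ℂ) - 1))) fun χ hχ => by
        rw [Finset.sum_congr rfl (g := fun _ => (val χ : ℂ) ^ 2) fun k hk => by
          rw [hval' χ (Finset.mem_filter.1 hχ).2 k k.2 fun e =>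
            (Finset.mem_erase.1 hk).1 (Subtype.ext e), map_intCast, sq],
          Finset.sum_const, Finset.card_erase_of_mem (Finset.mem_univ _), Finset.card_univ,
          ← Nat.card_eq_fintype_card, ← hn', nsmul_eq_mul, Nat.cast_sub (by omega), Nat.cast_one,
          mul_comm],
      ← Finset.sum_mul, nsmul_eq_mul, ← hFc] at h1
    have hmC : (e : ℂ) * F.card + 1 = n := by
      have : e * F.card + 1 = n := by rw [hFc]; exact hm
      exact_mod_cast this
    have hn1 : (n : ℂ) - 1 ≠ 0 := by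
      rw [sub_ne_zero]
      exact_mod_cast (show n ≠ 1 by omega)
    have h2 : ∑ χ ∈ (Finset.univ : Finset (IrrCharacter G)).filter (fun χ => χ ∉ F), (val χ : ℂ) ^ 2 =
        (e : ℂ) + 2 * ε * c - F.card * (c : ℂ) ^ 2 := by
      refine mul_right_cancel₀ hn1 ?_
      linear_combination h1 - ((n : ℂ) - e - 2 * ε * c) * hmC
    exact_mod_cast h2
  · -- the differences vanish off `A`
    intro χ hχ χ' hχ' l hl hl1
    obtain ⟨i, hi⟩ := hFm hχ
    obtain ⟨j, hj⟩ := hFm hχ'
    have h1 := congrFun (hbeta i.out j.out) l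
    rw [Quotient.out_eq, Quotient.out_eq, Pi.smul_apply, Pi.sub_apply, smul_eq_mul] at h1
    have h2 : CAEven.beta A i.out.1 j.out.1 l = 0 := by
      rw [CAEven.beta, indFun, mul_eq_zero]
      refine Or.inr (Finset.sum_eq_zero fun x _ => extendByZero_of_notMem _ _ fun hm => hl1 ?_)
      have h3 := hl x⁻¹ (by rwa [inv_inv])
      rw [inv_inv] at h3
      calc l = x * (x⁻¹ * l * x) * x⁻¹ := by group
        _ = 1 := by rw [h3]; group
    rw [h2] at h1
    rw [hi, hj]
    exact sub_eq_zero.1 ((mul_eq_zero.1 h1.symm).resolve_left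
      fun h0 => by rw [h0, zero_mul] at hεε; exact zero_ne_one hεε)
  · intro χ hχ χ' hχ' hne
    obtain ⟨i, hi⟩ := hFm hχ
    obtain ⟨j, hj⟩ := hFm hχ'
    obtain ⟨k, hk, hk'⟩ := hdist i j fun e => hne (Subtype.ext (by rw [hi, hj, e]))
    exact ⟨k, k.2, fun e => hk (Subtype.ext e), by rw [hi, hj]; exact hk'⟩
  · intro χ hχ v
    obtain ⟨i, hi⟩ := hFm hχ
    by_contra hcon
    push Not at hcon
    obtain ⟨j, hji⟩ := Fintype.exists_ne_of_one_lt_card (by omega : 1 < Fintype.card (Orb A)) i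
    have hψ : ∀ k : A, k ≠ 1 → psi A i.out.1 k = (ε : ℂ) * (v - c) := by
      intro k hk
      have h1 := hcon k k.2 fun e => hk (Subtype.ext e)
      rw [hi, hvalX i k hk] at h1
      linear_combination (ε : ℂ) * h1 - psi A i.out.1 k * hεε
    have hzero : ∀ l : Orb A, ∑ k : A, (l.out.1 k : ℂ) = 0 := by
      intro l
      have h1 := linear_inner (l.out.1) (1 : A →* ℂˣ)
      rw [if_neg l.out.2, classInner, mul_eq_zero] at h1
      have h2 := h1.resolve_left (inv_ne_zero (by exact_mod_cast Nat.card_pos.ne'))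
      simpa using h2
    have hi1 := hinner i
    have hi0 := hinner0 j i hji
    have key : ∀ l : Orb A, classInner (fun k : A => (l.out.1 k : ℂ)) (psi A i.out.1) =
        (n : ℂ)⁻¹ * ((e : ℂ) - conj ((ε : ℂ) * (v - c))) := by
      intro l
      rw [classInner, ← hn']
      congr 1
      have h1 := hzero l
      rw [← Finset.add_sum_erase _ _ (Finset.mem_univ (1 : A)), map_one, Units.val_one] at h1
      rw [← Finset.add_sum_erase _ _ (Finset.mem_univ (1 : A)), map_one, Units.val_one, one_mul, hψ1,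
        Complex.conj_natCast, Finset.sum_congr rfl fun k hk => by rw [hψ k (Finset.mem_erase.1 hk).1],
        ← Finset.sum_mul]
      linear_combination conj ((ε : ℂ) * (v - c)) * h1
    rw [key] at hi1 hi0
    exact one_ne_zero (hi1.symm.trans hi0)

end Cfsg.Lib.ThreeCC
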