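import Cfsg.Agent.Lib.ThreeCC.Setup
import Cfsg.Agent.Lib.ThreeCC.Family

/-!
# At most four further characters are non-zero on the three subgroups
-/

set_option autoImplicit false
set_option linter.unusedSectionVars false
set_option linter.style.haveILetI false
set_option maxHeartbeats 1000000

namespace Cfsg.Lib.ThreeCC

open Cfsg Cfsg.Lib.Char Subgroup
open scoped ComplexConjugate

universe u

variable {G : Type u} [Group G] [Fintype G]

/-- A non-positive correction term. -/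
theorem corr_nonneg {ε c : ℤ} {m : ℕ} (hε : ε = 1 ∨ ε = -1) (hm : 2 ≤ m) :
    0 ≤ c * ((m : ℤ) * c - 2 * ε) := by
  have hm' : (2 : ℤ) ≤ m := by exact_mod_cast hm
  rcases lt_trichotomy c 0 with h | h | h
  · have : (m : ℤ) * c ≤ -2 := by nlinarith
    refine mul_nonneg_of_nonpos_of_nonpos h.le ?_
    rcases hε with rfl | rfl <;> linarith
  · simp [h]
  · have : (2 : ℤ) ≤ (m : ℤ) * c := by nlinarith
    refine mul_nonneg h.le ?_
    rcases hε with rfl | rfl <;> linarith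

namespace Cfg

variable (C : Cfg G) (Fs : ∀ i, Fam (C.A i) (idx i))

/-- The total number of exceptional characters. -/
def M : ℕ := (Fs 0).F.card + (Fs 1).F.card + (Fs 2).F.card

theorem two_le_card (i : Fin 3) : 2 ≤ (Fs i).F.card := by
  have h := (Fs i).card_eq
  have h0 := C.hn₁; have h1 := C.hn₂; have h2 := C.hn₃
  match i with
  | 0 => change 2 * (Fs 0).F.card + 1 = _ at h; omega
  | 1 => change 4 * (Fs 1).F.card + 1 = _ at h; omega
  | 2 => change 4 * (Fs 2).F.card + 1 = _ at h; omega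

/-- An element of one subgroup avoids the others. -/
theorem avoid {i j : Fin 3} (hij : i ≠ j) {l : G} (hl : l ∈ C.A j) (hl1 : l ≠ 1) :
    ∀ g : G, g * l * g⁻¹ ∈ C.A i → g * l * g⁻¹ = 1 :=
  fun _ hg => absurd (C.eq_of_conj hl hl1 hg).symm hij

theorem disjoint {i j : Fin 3} (hij : i ≠ j) {χ : IrrCharacter G} (hi : χ ∈ (Fs i).F) :
    χ ∉ (Fs j).F := by
  intro hj
  obtain ⟨χ', hχ', hne⟩ : ∃ χ' ∈ (Fs i).F, χ' ≠ χ :=
    Finset.exists_mem_ne (lt_of_lt_of_le (by norm_num) (C.two_le_card Fs i)) χ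
  by_cases hj' : χ' ∈ (Fs j).F
  · obtain ⟨k, hk, hk1, hkv⟩ := (Fs j).distinct χ hj χ' hj' hne.symm
    exact hkv ((Fs i).diff χ hi χ' hχ' k (C.avoid hij hk hk1) hk1)
  · obtain ⟨k, hk, hk1, hkv⟩ := (Fs j).nonconst χ hj ((Fs j).val χ' : ℂ)
    exact hkv (((Fs i).diff χ hi χ' hχ' k (C.avoid hij hk hk1) hk1).trans ((Fs j).out χ' hj' k hk hk1))

/-- The principal character. -/
noncomputable def one (_C : Cfg G) : IrrCharacter G := ⟨fun _ => 1, isIrrCharacter_one⟩

theorem one_notMem (i : Fin 3) : C.one ∉ (Fs i).F := fun h => by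
  obtain ⟨k, -, -, hk⟩ := (Fs i).nonconst _ h 1
  exact hk rfl

theorem val_one (i : Fin 3) : (Fs i).val C.one = 1 := by
  obtain ⟨a, ha, ha1⟩ := C.exists_mem_ne_one i
  have h : (1 : ℂ) = ((Fs i).val C.one : ℂ) := (Fs i).out _ (C.one_notMem Fs i) a ha ha1
  exact_mod_cast h.symm

/-- The characters, other than the principal one, which are non-zero on `A i` and not exceptional
for it. -/
noncomputable def T (i : Fin 3) : Finset (IrrCharacter G) := by
  classical
  exact Finset.univ.filter fun χ => χ ∉ (Fs i).F ∧ χ ≠ C.one ∧ (Fs i).val χ ≠ 0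

theorem mem_T {i : Fin 3} {χ : IrrCharacter G} :
    χ ∈ C.T Fs i ↔ χ ∉ (Fs i).F ∧ χ ≠ C.one ∧ (Fs i).val χ ≠ 0 := by
  simp [T]

theorem sum_T (i : Fin 3) : ∑ χ ∈ C.T Fs i, (Fs i).val χ ^ 2 =
    (idx i : ℤ) - 1 - (Fs i).c * (((Fs i).F.card : ℤ) * (Fs i).c - 2 * (Fs i).ε) := by
  classical
  have h := (Fs i).sumSq
  set s := (Finset.univ : Finset (IrrCharacter G)).filter (fun χ => χ ∉ (Fs i).F) with hs
  have hone : C.one ∈ s := Finset.mem_filter.2 ⟨Finset.mem_univ _, C.one_notMem Fs i⟩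
  have h1 : ∑ χ ∈ C.T Fs i, (Fs i).val χ ^ 2 = ∑ χ ∈ s.erase C.one, (Fs i).val χ ^ 2 := by
    refine Finset.sum_subset ?_ ?_
    · intro χ hχ
      obtain ⟨h1, h2, -⟩ := (C.mem_T Fs).1 hχ
      exact Finset.mem_erase.2 ⟨h2, Finset.mem_filter.2 ⟨Finset.mem_univ _, h1⟩⟩
    · intro χ hχ hT
      obtain ⟨h2, h3⟩ := Finset.mem_erase.1 hχ
      have h4 : (Fs i).val χ = 0 := by
        by_contra h5
        exact hT ((C.mem_T Fs).2 ⟨(Finset.mem_filter.1 h3).2, h2, h5⟩)
      rw [h4]; ring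
  rw [← Finset.add_sum_erase _ _ hone, C.val_one] at h
  rw [h1]
  linarith

theorem card_T_le_sum (i : Fin 3) (s : Finset (IrrCharacter G)) (hs : s ⊆ C.T Fs i) :
    (s.card : ℤ) ≤ ∑ χ ∈ s, (Fs i).val χ ^ 2 := by
  calc (s.card : ℤ) = ∑ _χ ∈ s, (1 : ℤ) := by simp
    _ ≤ _ := Finset.sum_le_sum fun χ hχ => by
      have h : 0 < (Fs i).val χ * (Fs i).val χ := mul_self_pos.2 ((C.mem_T Fs).1 (hs hχ)).2.2
      nlinarith

theorem sum_T_le (i : Fin 3) : ∑ χ ∈ C.T Fs i, (Fs i).val χ ^ 2 ≤ (idx i : ℤ) - 1 := by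
  have := C.sum_T Fs i
  have := corr_nonneg (c := (Fs i).c) (Fs i).hε (C.two_le_card Fs i)
  linarith

/-- The common value of the members of one family on another subgroup. -/
noncomputable def v (i j : Fin 3) : ℤ :=
  (Fs j).val (Finset.card_pos.1 (lt_of_lt_of_le (by norm_num) (C.two_le_card Fs i)) :
    (Fs i).F.Nonempty).choose

theorem val_eq_v {i j : Fin 3} (hij : i ≠ j) {χ : IrrCharacter G} (hχ : χ ∈ (Fs i).F) :
    (Fs j).val χ = C.v Fs i j := by
  have hne : (Fs i).F.Nonempty :=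
    Finset.card_pos.1 (lt_of_lt_of_le (by norm_num) (C.two_le_card Fs i))
  obtain ⟨b, hb, hb1⟩ := C.exists_mem_ne_one j
  have h1 := (Fs i).diff χ hχ hne.choose hne.choose_spec b (C.avoid hij hb hb1) hb1
  rw [(Fs j).out χ (C.disjoint Fs hij hχ) b hb hb1,
    (Fs j).out _ (C.disjoint Fs hij hne.choose_spec) b hb hb1] at h1
  exact_mod_cast h1

theorem family_subset_T {i j : Fin 3} (hij : i ≠ j) (hv : C.v Fs i j ≠ 0) :
    (Fs i).F ⊆ C.T Fs j := fun χ hχ => (C.mem_T Fs).2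
  ⟨C.disjoint Fs hij hχ, fun e => C.one_notMem Fs i (e ▸ hχ), by rwa [C.val_eq_v Fs hij hχ]⟩

/-- The coefficient of a family. -/
def κ (i : Fin 3) : ℤ := -(Fs i).ε + (Fs i).F.card * (Fs i).c

/-- Orthogonality of two columns. -/
theorem orth {i j : Fin 3} (hij : i ≠ j) :
    1 + (∑ χ ∈ (by classical exact C.T Fs i ∩ C.T Fs j : Finset (IrrCharacter G)),
        (Fs i).val χ * (Fs j).val χ) + C.v Fs i j * C.κ Fs i + C.v Fs j i * C.κ Fs j = 0 := by
  classical
  obtain ⟨a, ha, ha1⟩ := C.exists_mem_ne_one i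
  obtain ⟨b, hb, hb1⟩ := C.exists_mem_ne_one j
  have hnc : ¬ IsConj a b := by
    intro h
    obtain ⟨g, hg⟩ := isConj_iff.1 h
    exact hij (C.eq_of_conj ha ha1 (hg.symm ▸ hb))
  have h0 := column_orthogonality a b
  rw [if_neg hnc, ← Finset.sum_filter_add_sum_filter_not Finset.univ (fun χ => χ ∈ (Fs i).F),
    ← Finset.sum_filter_add_sum_filter_not (Finset.univ.filter fun χ => ¬ χ ∈ (Fs i).F)
      (fun χ => χ ∈ (Fs j).F), Finset.filter_mem_eq_inter, Finset.univ_inter, Finset.filter_filter,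
    Finset.filter_filter] at h0
  have e1 : ∑ χ ∈ (Fs i).F, (χ : G → ℂ) a * conj ((χ : G → ℂ) b) =
      (C.v Fs i j : ℂ) * (C.κ Fs i : ℂ) := by
    rw [Finset.sum_congr rfl (g := fun χ : IrrCharacter G => (χ : G → ℂ) a * (C.v Fs i j : ℂ)) fun χ hχ => by
      rw [(Fs j).out χ (C.disjoint Fs hij hχ) b hb hb1, C.val_eq_v Fs hij hχ, map_intCast],
      ← Finset.sum_mul, (Fs i).sumF a ha ha1, mul_comm]
    rfl
  have e2 : ∑ χ ∈ Finset.univ.filter (fun χ => ¬ χ ∈ (Fs i).F ∧ χ ∈ (Fs j).F),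
      (χ : G → ℂ) a * conj ((χ : G → ℂ) b) = (C.v Fs j i : ℂ) * (C.κ Fs j : ℂ) := by
    rw [show Finset.univ.filter (fun χ => ¬ χ ∈ (Fs i).F ∧ χ ∈ (Fs j).F) = (Fs j).F from by
        ext χ
        simp only [Finset.mem_filter, Finset.mem_univ, true_and]
        exact ⟨fun h => h.2, fun h => ⟨C.disjoint Fs hij.symm h, h⟩⟩,
      Finset.sum_congr rfl (g := fun χ : IrrCharacter G => (C.v Fs j i : ℂ) * conj ((χ : G → ℂ) b)) fun χ hχ => by
        rw [(Fs i).out χ (C.disjoint Fs hij.symm hχ) a ha ha1, C.val_eq_v Fs hij.symm hχ],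
      ← Finset.mul_sum, ← map_sum, (Fs j).sumF b hb hb1, map_intCast]
    rfl
  set R := Finset.univ.filter (fun χ : IrrCharacter G => ¬ χ ∈ (Fs i).F ∧ ¬ χ ∈ (Fs j).F) with hR
  have e3 : ∑ χ ∈ R, (χ : G → ℂ) a * conj ((χ : G → ℂ) b) =
      ((∑ χ ∈ R, (Fs i).val χ * (Fs j).val χ : ℤ) : ℂ) := by
    push_cast
    refine Finset.sum_congr rfl fun χ hχ => ?_
    obtain ⟨h1, h2⟩ := (Finset.mem_filter.1 hχ).2
    rw [(Fs i).out χ h1 a ha ha1, (Fs j).out χ h2 b hb hb1, map_intCast]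
  rw [e1, e2, e3] at h0
  have h1 : C.v Fs i j * C.κ Fs i + (C.v Fs j i * C.κ Fs j +
      ∑ χ ∈ R, (Fs i).val χ * (Fs j).val χ) = 0 := by exact_mod_cast h0
  have hone : C.one ∈ R :=
    Finset.mem_filter.2 ⟨Finset.mem_univ _, C.one_notMem Fs i, C.one_notMem Fs j⟩
  rw [← Finset.add_sum_erase _ _ hone, C.val_one, C.val_one] at h1
  have h2 : ∑ χ ∈ C.T Fs i ∩ C.T Fs j, (Fs i).val χ * (Fs j).val χ =
      ∑ χ ∈ R.erase C.one, (Fs i).val χ * (Fs j).val χ := by
    refine Finset.sum_subset ?_ ?_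
    · intro χ hχ
      obtain ⟨h3, h4⟩ := Finset.mem_inter.1 hχ
      obtain ⟨a1, a2, -⟩ := (C.mem_T Fs).1 h3
      obtain ⟨b1, -, -⟩ := (C.mem_T Fs).1 h4
      exact Finset.mem_erase.2 ⟨a2, Finset.mem_filter.2 ⟨Finset.mem_univ _, a1, b1⟩⟩
    · intro χ hχ hn
      obtain ⟨h3, h4⟩ := Finset.mem_erase.1 hχ
      obtain ⟨h5, h6⟩ := (Finset.mem_filter.1 h4).2
      by_contra h7
      obtain ⟨h8, h9⟩ := mul_ne_zero_iff.1 h7
      exact hn (Finset.mem_inter.2 ⟨(C.mem_T Fs).2 ⟨h5, h3, h8⟩, (C.mem_T Fs).2 ⟨h6, h3, h9⟩⟩)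
  rw [h2]
  linarith

/-- The first subgroup has one further character. -/
theorem exists_single : ∃ χ, C.T Fs 0 = {χ} ∧ ((Fs 0).val χ = 1 ∨ (Fs 0).val χ = -1) ∧
    (C.κ Fs 0 = 1 ∨ C.κ Fs 0 = -1) := by
  classical
  have hs := C.sum_T Fs 0
  rw [show ((idx 0 : ℕ) : ℤ) = 2 from rfl] at hs
  have hle := C.card_T_le_sum Fs 0 _ (Finset.Subset.refl (C.T Fs 0))
  have hnn := corr_nonneg (c := (Fs 0).c) (Fs 0).hε (C.two_le_card Fs 0)
  have hm := C.two_le_card Fs 0
  have hm' : (2 : ℤ) ≤ (Fs 0).F.card := by exact_mod_cast hm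
  have hε := (Fs 0).hε
  rcases Finset.eq_empty_or_nonempty (C.T Fs 0) with he | ⟨χ, hχ⟩
  · exfalso
    rw [he, Finset.sum_empty] at hs
    have h1 : (Fs 0).c * (((Fs 0).F.card : ℤ) * (Fs 0).c - 2 * (Fs 0).ε) = 1 := by linarith
    have hκ : ∃ r : ℤ, C.κ Fs 0 = 2 * r := by
      rcases Int.eq_one_or_neg_one_of_mul_eq_one h1 with hc | hc
      · rw [hc] at h1
        rcases hε with e | e <;> rw [e] at h1
        · exact ⟨1, by unfold κ; rw [hc, e]; linarith⟩
        · linarith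
      · rw [hc] at h1
        rcases hε with e | e <;> rw [e] at h1
        · linarith
        · exact ⟨-1, by unfold κ; rw [hc, e]; linarith⟩
    have hv : C.v Fs 1 0 = 0 := by
      by_contra hv
      have h2 := Finset.card_le_card (C.family_subset_T Fs (by decide) hv)
      have := C.two_le_card Fs 1
      rw [he, Finset.card_empty] at h2
      omega
    have h3 := C.orth Fs (show (0 : Fin 3) ≠ 1 by decide)
    rw [hv, he] at h3
    simp only [Finset.empty_inter, Finset.sum_empty] at h3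
    obtain ⟨r, hr⟩ := hκ
    rw [hr] at h3
    have : (2 : ℤ) ∣ 1 := ⟨-(C.v Fs 0 1 * r), by linarith⟩
    norm_num at this
  · have h1 : 1 ≤ (C.T Fs 0).card := Finset.card_pos.2 ⟨χ, hχ⟩
    have h1' : (1 : ℤ) ≤ (C.T Fs 0).card := by exact_mod_cast h1
    have hcard : (C.T Fs 0).card = 1 := by
      have : ((C.T Fs 0).card : ℤ) = 1 := by linarith
      exact_mod_cast this
    have hc : (Fs 0).c * (((Fs 0).F.card : ℤ) * (Fs 0).c - 2 * (Fs 0).ε) = 0 := by linarith
    obtain ⟨χ', hχ'⟩ := Finset.card_eq_one.1 hcard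
    rw [hχ', Finset.mem_singleton] at hχ
    subst hχ
    refine ⟨χ, hχ', ?_, ?_⟩
    · rw [hχ', Finset.sum_singleton, hc] at hs
      exact mul_self_eq_one_iff.1 (by linarith)
    · rcases mul_eq_zero.1 hc with h2 | h2
      · unfold κ; rw [h2]; rcases hε with e | e <;> rw [e] <;> norm_num
      · unfold κ
        rcases hε with e | e <;> rw [e] at h2 ⊢
        · left; linarith
        · right; linarith

/-- The characters which vanish on all three subgroups. -/
noncomputable def V : Finset (IrrCharacter G) := by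
  classical
  exact Finset.univ.filter fun χ : IrrCharacter G => ∀ i, ∀ a ∈ C.A i, a ≠ 1 → (χ : G → ℂ) a = 0

theorem mem_V {χ : IrrCharacter G} :
    χ ∈ C.V ↔ ∀ i, ∀ a ∈ C.A i, a ≠ 1 → (χ : G → ℂ) a = 0 := by
  simp [V]

/-- At most four non-exceptional characters are non-zero on the subgroups. -/
theorem card_le : Fintype.card (IrrCharacter G) ≤ C.M Fs + 4 + C.V.card := by
  classical
  obtain ⟨χ, hT0, hδ, hκ⟩ := C.exists_single Fs
  have hχT : χ ∈ C.T Fs 0 := hT0 ▸ Finset.mem_singleton_self χ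
  -- the other families are zero on the first subgroup
  have hv0 : ∀ j : Fin 3, j ≠ 0 → C.v Fs j 0 = 0 := fun j hj => by
    by_contra hv
    have h2 := Finset.card_le_card (C.family_subset_T Fs hj hv)
    have := C.two_le_card Fs j
    rw [hT0, Finset.card_singleton] at h2
    omega
  have hχF : ∀ i, χ ∉ (Fs i).F := fun i h => by
    by_cases hi : i = 0
    · exact ((C.mem_T Fs).1 hχT).1 (hi ▸ h)
    · exact ((C.mem_T Fs).1 hχT).2.2 ((C.val_eq_v Fs hi h).trans (hv0 i hi))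
  -- the remaining characters of the other two columns
  let B : Fin 3 → Finset (IrrCharacter G) := fun j => (C.T Fs j).erase χ \ (Fs 0).F
  have hBT : ∀ j, B j ⊆ C.T Fs j := fun j => Finset.sdiff_subset.trans (Finset.erase_subset _ _)
  have hbudget : ∀ j : Fin 3, j ≠ 0 → ∑ ψ ∈ C.T Fs j, (Fs j).val ψ ^ 2 ≤ 3 := fun j hj => by
    have h := C.sum_T_le Fs j
    rw [show ((idx j : ℕ) : ℤ) = 4 from by fin_cases j <;> first | exact absurd rfl hj | rfl] at h
    linarith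
  have horth0 : ∀ j : Fin 3, j ≠ 0 → C.v Fs 0 j = 0 →
      χ ∈ C.T Fs j ∧ (Fs 0).val χ * (Fs j).val χ = -1 := by
    intro j hj hv
    have h := C.orth Fs hj.symm
    rw [hv, hv0 j hj, zero_mul, zero_mul, add_zero, add_zero, hT0] at h
    by_cases hm : χ ∈ C.T Fs j
    · rw [Finset.singleton_inter_of_mem hm, Finset.sum_singleton] at h
      exact ⟨hm, by linarith⟩
    · rw [Finset.singleton_inter_of_notMem hm, Finset.sum_empty] at h
      norm_num at h
  -- the size of `B j`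
  have hB : ∀ j : Fin 3, j ≠ 0 → ∑ ψ ∈ B j, (Fs j).val ψ ^ 2 ≤ 2 ∧
      (C.v Fs 0 j ≠ 0 → ∑ ψ ∈ B j, (Fs j).val ψ ^ 2 ≤ 1 ∧ (χ ∈ C.T Fs j → B j = ∅)) := by
    intro j hj
    have hbud := hbudget j hj
    by_cases hv : C.v Fs 0 j = 0
    · obtain ⟨hm, -⟩ := horth0 j hj hv
      refine ⟨?_, fun h => absurd hv h⟩
      have hsub : B j ⊆ (C.T Fs j).erase χ := Finset.sdiff_subset
      have h1 := Finset.sum_le_sum_of_subset_of_nonneg hsub
        (f := fun ψ => (Fs j).val ψ ^ 2) fun _ _ _ => sq_nonneg _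
      have h2 := C.card_T_le_sum Fs j {χ} (Finset.singleton_subset_iff.2 hm)
      rw [Finset.card_singleton, Finset.sum_singleton] at h2
      rw [← Finset.add_sum_erase _ _ hm] at hbud
      push_cast at h2
      linarith
    · have hF := C.family_subset_T Fs hj.symm hv
      have hdisj : Disjoint (B j) (Fs 0).F := Finset.sdiff_disjoint
      have hU : B j ∪ (Fs 0).F ⊆ C.T Fs j := Finset.union_subset (hBT j) hF
      have h1 := Finset.sum_le_sum_of_subset_of_nonneg hU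
        (f := fun ψ => (Fs j).val ψ ^ 2) fun _ _ _ => sq_nonneg _
      rw [Finset.sum_union hdisj] at h1
      have h2 := C.card_T_le_sum Fs j _ hF
      have h3 : (2 : ℤ) ≤ ((Fs 0).F.card : ℤ) := by exact_mod_cast C.two_le_card Fs 0
      refine ⟨by linarith, fun _ => ⟨by linarith, fun hm => ?_⟩⟩
      have hχU : χ ∉ B j ∪ (Fs 0).F := by
        simp only [B, Finset.mem_union, Finset.mem_sdiff, Finset.mem_erase]
        rintro (⟨⟨h, -⟩, -⟩ | h)
        · exact h rfl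
        · exact hχF 0 h
      have h4 := Finset.sum_le_sum_of_subset_of_nonneg
        (Finset.insert_subset hm hU) (f := fun ψ => (Fs j).val ψ ^ 2) fun _ _ _ => sq_nonneg _
      rw [Finset.sum_insert hχU, Finset.sum_union hdisj] at h4
      have h5 := C.card_T_le_sum Fs j {χ} (Finset.singleton_subset_iff.2 hm)
      rw [Finset.card_singleton, Finset.sum_singleton] at h5
      have h6 := C.card_T_le_sum Fs j _ (hBT j)
      push_cast at h5
      rw [← Finset.card_eq_zero]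
      omega
  have hBcard : ∀ j : Fin 3, j ≠ 0 →
      (B j).card ≤ 2 ∧ (C.v Fs 0 j ≠ 0 → (B j).card ≤ 1) := fun j hj => by
    have h1 := C.card_T_le_sum Fs j _ (hBT j)
    obtain ⟨h2, h3⟩ := hB j hj
    exact ⟨by omega, fun hv => by have := (h3 hv).1; omega⟩
  set P := B 1 \ (Fs 2).F with hP
  set R := B 2 \ (Fs 1).F with hR
  have hPB : P ⊆ B 1 := Finset.sdiff_subset
  have hRB : R ⊆ B 2 := Finset.sdiff_subset
  have hPc := Finset.card_le_card hPB
  have hRc := Finset.card_le_card hRB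
  have hB1 := hBcard 1 (by decide)
  have hB2 := hBcard 2 (by decide)
  -- the union
  have hunion : (P ∪ R).card ≤ 2 := by
    by_cases hsmall : P.card + R.card ≤ 2
    · exact (Finset.card_union_le _ _).trans hsmall
    push Not at hsmall
    have hcross : ∀ i j : Fin 3, i ≠ 0 → j ≠ 0 → i ≠ j → C.v Fs i j ≠ 0 → (B j \ (Fs i).F).card = 0 := by
      intro i j hi hj hij hv
      have hF : (Fs i).F ⊆ B j := fun ψ hψ => Finset.mem_sdiff.2
        ⟨Finset.mem_erase.2 ⟨fun e => hχF i (e ▸ hψ), C.family_subset_T Fs hij hv hψ⟩,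
          C.disjoint Fs hi hψ⟩
      rw [Finset.card_sdiff_of_subset hF]
      have := (hBcard j hj).1
      have := C.two_le_card Fs i
      omega
    have h12 : C.v Fs 1 2 = 0 := by
      by_contra hv
      have : R.card = 0 := hcross 1 2 (by decide) (by decide) (by decide) hv
      omega
    have h21 : C.v Fs 2 1 = 0 := by
      by_contra hv
      have : P.card = 0 := hcross 2 1 (by decide) (by decide) (by decide) hv
      omega
    have horth := C.orth Fs (show (1 : Fin 3) ≠ 2 by decide)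
    rw [h12, h21, zero_mul, zero_mul, add_zero, add_zero] at horth
    -- the two values on the other family are not both non-zero
    have hnot : C.v Fs 0 1 = 0 ∨ C.v Fs 0 2 = 0 := by
      by_contra hc
      push Not at hc
      have := hB1.2 hc.1
      have := hB2.2 hc.2
      omega
    -- the common part
    have hcomm : C.T Fs 1 ∩ C.T Fs 2 ⊆ insert χ (P ∩ R) := by
      intro ψ hψ
      obtain ⟨h1, h2⟩ := Finset.mem_inter.1 hψ
      obtain ⟨a1, -, a3⟩ := (C.mem_T Fs).1 h1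
      obtain ⟨b1, -, b3⟩ := (C.mem_T Fs).1 h2
      by_cases he : ψ = χ
      · exact Finset.mem_insert.2 (Or.inl he)
      have h0 : ψ ∉ (Fs 0).F := fun h => by
        rcases hnot with h' | h'
        · exact a3 ((C.val_eq_v Fs (by decide) h).trans h')
        · exact b3 ((C.val_eq_v Fs (by decide) h).trans h')
      exact Finset.mem_insert.2 (Or.inr (Finset.mem_inter.2
        ⟨Finset.mem_sdiff.2 ⟨Finset.mem_sdiff.2 ⟨Finset.mem_erase.2 ⟨he, h1⟩, h0⟩, b1⟩,
          Finset.mem_sdiff.2 ⟨Finset.mem_sdiff.2 ⟨Finset.mem_erase.2 ⟨he, h2⟩, h0⟩, a1⟩⟩))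
    have hPRT : P ∩ R ⊆ C.T Fs 1 ∩ C.T Fs 2 := fun ψ hψ =>
      Finset.mem_inter.2 ⟨hBT 1 (hPB (Finset.mem_inter.1 hψ).1), hBT 2 (hRB (Finset.mem_inter.1 hψ).2)⟩
    have hχPR : χ ∉ P ∩ R := fun h =>
      (Finset.mem_erase.1 (Finset.mem_sdiff.1 (hPB (Finset.mem_inter.1 h).1)).1).1 rfl
    have hsum : ∑ ψ ∈ C.T Fs 1 ∩ C.T Fs 2, (Fs 1).val ψ * (Fs 2).val ψ =
        (if χ ∈ C.T Fs 1 ∩ C.T Fs 2 then (Fs 1).val χ * (Fs 2).val χ else 0) +
          ∑ ψ ∈ P ∩ R, (Fs 1).val ψ * (Fs 2).val ψ := by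
      by_cases hm : χ ∈ C.T Fs 1 ∩ C.T Fs 2
      · rw [if_pos hm, ← Finset.sum_insert (f := fun ψ => (Fs 1).val ψ * (Fs 2).val ψ) hχPR]
        exact Finset.sum_congr (Finset.Subset.antisymm hcomm (Finset.insert_subset hm hPRT)) fun _ _ => rfl
      · rw [if_neg hm, zero_add]
        refine Finset.sum_congr (Finset.Subset.antisymm (fun ψ hψ => ?_) hPRT) fun _ _ => rfl
        rcases Finset.mem_insert.1 (hcomm hψ) with rfl | h
        · exact absurd hψ hm
        · exact h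
    rw [hsum] at horth
    have hval : ∀ ψ ∈ P ∩ R, -1 ≤ (Fs 1).val ψ * (Fs 2).val ψ := by
      intro ψ hψ
      have b1 : (Fs 1).val ψ ^ 2 ≤ 2 := (Finset.single_le_sum (f := fun x => (Fs 1).val x ^ 2)
        (fun _ _ => sq_nonneg _) (hPB (Finset.mem_inter.1 hψ).1)).trans (hB 1 (by decide)).1
      have b2 : (Fs 2).val ψ ^ 2 ≤ 2 := (Finset.single_le_sum (f := fun x => (Fs 2).val x ^ 2)
        (fun _ _ => sq_nonneg _) (hRB (Finset.mem_inter.1 hψ).2)).trans (hB 2 (by decide)).1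
      have i1 : -1 ≤ (Fs 1).val ψ ∧ (Fs 1).val ψ ≤ 1 := ⟨by nlinarith, by nlinarith⟩
      have i2 : -1 ≤ (Fs 2).val ψ ∧ (Fs 2).val ψ ≤ 1 := ⟨by nlinarith, by nlinarith⟩
      nlinarith
    have hge : -((P ∩ R).card : ℤ) ≤ ∑ ψ ∈ P ∩ R, (Fs 1).val ψ * (Fs 2).val ψ := by
      calc -((P ∩ R).card : ℤ) = ∑ _ψ ∈ P ∩ R, (-1 : ℤ) := by simp
        _ ≤ _ := Finset.sum_le_sum hval
    have hPR := Finset.card_union_add_card_inter P R
    by_cases h1 : C.v Fs 0 1 = 0
    · by_cases h2 : C.v Fs 0 2 = 0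
      · obtain ⟨m1, e1⟩ := horth0 1 (by decide) h1
        obtain ⟨m2, e2⟩ := horth0 2 (by decide) h2
        rw [if_pos (Finset.mem_inter.2 ⟨m1, m2⟩)] at horth
        have hprod : (Fs 1).val χ * (Fs 2).val χ = 1 := by
          rcases hδ with h | h <;> rw [h] at e1 e2
          · rw [show (Fs 1).val χ = -1 by linarith, show (Fs 2).val χ = -1 by linarith]; norm_num
          · rw [show (Fs 1).val χ = 1 by linarith, show (Fs 2).val χ = 1 by linarith]; norm_num
        omega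
      · have hR1 := hB2.2 h2
        have hχ2 : χ ∉ C.T Fs 2 := fun hm => by
          have : B 2 = ∅ := ((hB 2 (by decide)).2 h2).2 hm
          rw [this, Finset.card_empty] at hR1
          have : R.card = 0 := Finset.card_eq_zero.2 (Finset.subset_empty.1 (this ▸ hRB))
          omega
        rw [if_neg (fun h => hχ2 (Finset.mem_inter.1 h).2)] at horth
        omega
    · have hP1 := hB1.2 h1
      have hχ1 : χ ∉ C.T Fs 1 := fun hm => by
        have : B 1 = ∅ := ((hB 1 (by decide)).2 h1).2 hm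
        have : P.card = 0 := Finset.card_eq_zero.2 (Finset.subset_empty.1 (this ▸ hPB))
        omega
      rw [if_neg (fun h => hχ1 (Finset.mem_inter.1 h).1)] at horth
      omega
  -- everything
  have hcover : (Finset.univ : Finset (IrrCharacter G)) ⊆
      (Fs 0).F ∪ (Fs 1).F ∪ (Fs 2).F ∪ {C.one, χ} ∪ (P ∪ R) ∪ C.V := by
    intro ψ _
    simp only [Finset.mem_union, Finset.mem_insert, Finset.mem_singleton]
    by_contra hc
    push Not at hc
    obtain ⟨⟨⟨⟨⟨f0, f1⟩, f2⟩, n1, nχ⟩, nP, nR⟩, nV⟩ := hc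
    refine nV ((C.mem_V).2 ?_)
    have hF : ∀ i : Fin 3, ψ ∉ (Fs i).F := by
      intro i; fin_cases i <;> assumption
    intro i a ha ha1
    rw [(Fs i).out ψ (hF i) a ha ha1]
    by_contra hne
    have hT : ψ ∈ C.T Fs i := (C.mem_T Fs).2 ⟨hF i, n1, fun e => hne (by rw [e]; exact Int.cast_zero)⟩
    have hB' : ∀ j, ψ ∈ C.T Fs j → ψ ∈ B j := fun j h =>
      Finset.mem_sdiff.2 ⟨Finset.mem_erase.2 ⟨nχ, h⟩, f0⟩
    match i with
    | 0 => rw [hT0, Finset.mem_singleton] at hT; exact nχ hT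
    | 1 => exact nP (Finset.mem_sdiff.2 ⟨hB' 1 hT, f2⟩)
    | 2 => exact nR (Finset.mem_sdiff.2 ⟨hB' 2 hT, f1⟩)
  have h := Finset.card_le_card hcover
  rw [Finset.card_univ] at h
  refine h.trans ?_
  have a1 := Finset.card_union_le ((Fs 0).F ∪ (Fs 1).F ∪ (Fs 2).F ∪ {C.one, χ} ∪ (P ∪ R)) C.V
  have a2 := Finset.card_union_le ((Fs 0).F ∪ (Fs 1).F ∪ (Fs 2).F ∪ {C.one, χ}) (P ∪ R)
  have a3 := Finset.card_union_le ((Fs 0).F ∪ (Fs 1).F ∪ (Fs 2).F) {C.one, χ}
  have a4 := Finset.card_union_le ((Fs 0).F ∪ (Fs 1).F) (Fs 2).F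
  have a5 := Finset.card_union_le (Fs 0).F (Fs 1).F
  have a6 : ({C.one, χ} : Finset (IrrCharacter G)).card ≤ 2 := Finset.card_le_two
  unfold M
  omega

end Cfg

end Cfsg.Lib.ThreeCC
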