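import Cfsg.Agent.Lib.ThreeCC.Bound
import Cfsg.Agent.Lib.Invol.BrauerFowler
import Mathlib.GroupTheory.CommutingProbability

/-!
# The class equation and the pairs of involutions
-/

set_option autoImplicit false
set_option linter.unusedSectionVars false
set_option linter.style.haveILetI false
set_option maxHeartbeats 1000000

namespace Cfsg.Lib.ThreeCC

open Cfsg Cfsg.Lib.Char Subgroup

universe u

variable {G : Type u} [Group G] [Fintype G]

/-- The centralizer orders add up to the number of classes times the group order. -/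
theorem sum_centralizer :
    ∑ g : G, Nat.card ↥(centralizer ({g} : Set G)) = Nat.card (ConjClasses G) * Nat.card G := by
  rw [← card_comm_eq_card_conjClasses_mul_card, ← Nat.card_sigma]
  refine Nat.card_congr ⟨fun p => ⟨(p.1, p.2.1), (mem_centralizer_singleton_iff.1 p.2.2).symm⟩,
    fun q => ⟨q.1.1, q.1.2, mem_centralizer_singleton_iff.2 q.2.eq.symm⟩,
    fun p => rfl, fun q => rfl⟩

/-- The conjugates of an element. -/
noncomputable def cls (g : G) : Finset G := by
  classical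
  exact Finset.univ.filter fun y => IsConj g y

theorem mem_cls {g y : G} : y ∈ cls g ↔ IsConj g y := by simp [cls]

theorem card_cls (g : G) :
    (cls g).card * Nat.card ↥(centralizer ({g} : Set G)) = Nat.card G := by
  rw [← Invol.card_conj_mul_centralizer g]
  congr 1
  rw [← Nat.card_eq_finsetCard]
  exact Nat.card_congr (Equiv.subtypeEquivRight fun y => mem_cls)

theorem card_centralizer_of_isConj {g y : G} (h : IsConj g y) :
    Nat.card ↥(centralizer ({y} : Set G)) = Nat.card ↥(centralizer ({g} : Set G)) := by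
  have h1 := card_cls g
  have h2 := card_cls y
  have he : cls g = cls y := by
    ext z; rw [mem_cls, mem_cls]; exact ⟨fun h' => h.symm.trans h', fun h' => h.trans h'⟩
  have hpos : 0 < (cls g).card := Finset.card_pos.2 ⟨g, mem_cls.2 (IsConj.refl g)⟩
  rw [← he, ← h1] at h2
  exact Nat.eq_of_mul_eq_mul_left hpos h2

theorem sum_cls (g : G) :
    ∑ y ∈ cls g, Nat.card ↥(centralizer ({y} : Set G)) = Nat.card G := by
  rw [Finset.sum_congr rfl fun y hy => card_centralizer_of_isConj (mem_cls.1 hy), Finset.sum_const,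
    smul_eq_mul, card_cls]

namespace Cfg

variable (C : Cfg G)

/-- The conjugates of the non-identity elements of one subgroup. -/
noncomputable def X (i : Fin 3) : Finset G := by
  classical
  exact Finset.univ.filter fun g => g ≠ 1 ∧ ∃ x : G, x * g * x⁻¹ ∈ C.A i

theorem mem_X {i : Fin 3} {g : G} : g ∈ C.X i ↔ g ≠ 1 ∧ ∃ x : G, x * g * x⁻¹ ∈ C.A i := by
  simp [X]

theorem card_normalizer (i : Fin 3) :
    Nat.card ↥(normalizer (C.A i : Set G)) = C.n i * idx i := by
  rw [Cfg.n, ← C.he i, Subgroup.relIndex,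
    ← Subgroup.card_mul_index ((C.A i).subgroupOf (normalizer (C.A i : Set G)))]
  congr 1
  exact Nat.card_congr (Subgroup.subgroupOfEquivOfLe (le_normalizer (H := C.A i))).toEquiv

theorem card_X (i : Fin 3) :
    (C.X i).card * (C.n i * idx i) = Nat.card G * (C.n i - 1) := by
  classical
  set S := (Finset.univ : Finset G) ×ˢ (Finset.univ.filter fun a : G => a ∈ C.A i ∧ a ≠ 1) with hS
  have hmap : ∀ p ∈ S, p.1 * p.2 * p.1⁻¹ ∈ C.X i := by
    intro p hp
    obtain ⟨-, hp2⟩ := Finset.mem_product.1 hp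
    obtain ⟨ha, ha1⟩ := (Finset.mem_filter.1 hp2).2
    refine C.mem_X.2 ⟨fun e => ha1 (conj_eq_one_iff.1 e), p.1⁻¹, ?_⟩
    rwa [show p.1⁻¹ * (p.1 * p.2 * p.1⁻¹) * p.1⁻¹⁻¹ = p.2 by group]
  have hfib : ∀ g ∈ C.X i, (S.filter fun p => p.1 * p.2 * p.1⁻¹ = g).card = C.n i * idx i := by
    intro g hg
    obtain ⟨hg1, x, hx⟩ := C.mem_X.1 hg
    rw [← C.card_normalizer i, ← Nat.card_eq_finsetCard]
    have hmem : ∀ y : normalizer (C.A i : Set G), (y : G) * (x * g * x⁻¹) * (y : G)⁻¹ ∈ C.A i :=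
      fun y => (mem_normalizer_iff.1 y.2 _).1 hx
    refine Nat.card_congr (Equiv.ofBijective (fun p : {p // p ∈ S.filter fun p => p.1 * p.2 * p.1⁻¹ = g} =>
      (⟨p.1.1⁻¹ * x⁻¹, ?_⟩ : normalizer (C.A i : Set G))) ⟨?_, ?_⟩)
    · obtain ⟨hp, hpe⟩ := Finset.mem_filter.1 p.2
      obtain ⟨ha, ha1⟩ := (Finset.mem_filter.1 (Finset.mem_product.1 hp).2).2
      refine (C.isCA i).ti hx (fun e => hg1 (conj_eq_one_iff.1 e)) ?_
      have e : p.1.1⁻¹ * x⁻¹ * (x * g * x⁻¹) * (p.1.1⁻¹ * x⁻¹)⁻¹ = p.1.2 := by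
        generalize p.1 = q at hpe ⊢
        subst hpe
        group
      rwa [e]
    · rintro ⟨⟨y, a⟩, hp⟩ ⟨⟨y', a'⟩, hp'⟩ h
      have hy : y = y' := by simpa using congrArg Subtype.val h
      subst hy
      have e1 := (Finset.mem_filter.1 hp).2
      have e2 := (Finset.mem_filter.1 hp').2
      have : a = a' := by
        simpa using e1.trans e2.symm
      subst this; rfl
    · intro y
      refine ⟨⟨(x⁻¹ * (y : G)⁻¹, (y : G) * (x * g * x⁻¹) * (y : G)⁻¹), Finset.mem_filter.2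
        ⟨Finset.mem_product.2 ⟨Finset.mem_univ _, Finset.mem_filter.2 ⟨Finset.mem_univ _, hmem y, ?_⟩⟩,
          by group⟩⟩, Subtype.ext (by group)⟩
      exact fun e => hg1 (conj_eq_one_iff.1 (conj_eq_one_iff.1 e))
  have h := Finset.card_eq_sum_card_fiberwise hmap
  rw [Finset.sum_congr rfl hfib, Finset.sum_const, smul_eq_mul, hS, Finset.card_product,
    Finset.card_univ, ← Nat.card_eq_fintype_card] at h
  rw [← h]
  congr 1
  rw [show (Finset.univ.filter fun a : G => a ∈ C.A i ∧ a ≠ 1) =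
      (Finset.univ.filter fun a : G => a ∈ C.A i).erase 1 by
    ext; simp [and_comm], Finset.card_erase_of_mem (by simp), Cfg.n, Nat.card_eq_fintype_card,
    Fintype.card_subtype]

theorem card_centralizer_X {i : Fin 3} {g : G} (hg : g ∈ C.X i) :
    Nat.card ↥(centralizer ({g} : Set G)) = C.n i := by
  obtain ⟨hg1, x, hx⟩ := C.mem_X.1 hg
  rw [← card_centralizer_of_isConj (isConj_iff.2 ⟨x, rfl⟩ : IsConj g (x * g * x⁻¹)),
    C.hsc i _ hx fun e => hg1 (conj_eq_one_iff.1 e)]
  rfl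

/-- The elements off the subgroups. -/
noncomputable def U : Finset G := by
  classical
  exact Finset.univ.filter fun g => C.Off g

theorem mem_U {g : G} : g ∈ C.U ↔ C.Off g := by simp [U]

theorem sum_split (f : G → ℕ) :
    ∑ g : G, f g = f 1 + (∑ i : Fin 3, ∑ g ∈ C.X i, f g) + ∑ g ∈ C.U, f g := by
  classical
  have hd : Set.PairwiseDisjoint (Finset.univ : Finset (Fin 3)) (fun i => C.X i) := by
    intro i _ j _ hij
    refine Finset.disjoint_left.2 fun g hi hj => hij ?_
    obtain ⟨hg1, x, hx⟩ := C.mem_X.1 hi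
    obtain ⟨-, y, hy⟩ := C.mem_X.1 hj
    refine C.eq_of_conj (g := y * x⁻¹) hx (fun e => hg1 (conj_eq_one_iff.1 e)) ?_
    rwa [show y * x⁻¹ * (x * g * x⁻¹) * (y * x⁻¹)⁻¹ = y * g * y⁻¹ by group]
  rw [← Finset.sum_biUnion hd, ← Finset.add_sum_erase _ _ (Finset.mem_univ (1 : G)), add_assoc]
  congr 1
  rw [← Finset.sum_union]
  · refine Finset.sum_congr ?_ fun _ _ => rfl
    ext g
    simp only [Finset.mem_erase, Finset.mem_univ, and_true, Finset.mem_union, Finset.mem_biUnion,
      true_and, C.mem_X, C.mem_U, Cfg.Off]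
    constructor
    · intro hg
      by_cases h : ∃ i, ∃ x : G, x * g * x⁻¹ ∈ C.A i
      · obtain ⟨i, hi⟩ := h; exact Or.inl ⟨i, hg, hi⟩
      · push Not at h; exact Or.inr ⟨hg, h⟩
    · rintro (⟨i, hg, -⟩ | ⟨hg, -⟩) <;> exact hg
  · refine Finset.disjoint_left.2 fun g h1 h2 => ?_
    obtain ⟨i, -, hi⟩ := Finset.mem_biUnion.1 h1
    obtain ⟨-, x, hx⟩ := C.mem_X.1 hi
    exact (C.mem_U.1 h2).2 i x hx

variable (Fs : ∀ i, Fam (C.A i) (idx i))

theorem weight_X (i : Fin 3) : (C.X i).card * C.n i = Nat.card G * (Fs i).F.card := by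
  have h := C.card_X i
  have hc : C.n i = idx i * (Fs i).F.card + 1 := (Fs i).card_eq.symm
  have hi : 0 < idx i := by fin_cases i <;> decide
  refine Nat.eq_of_mul_eq_mul_right hi ?_
  rw [mul_assoc, h, hc, Nat.add_sub_cancel]
  ring

/-- The weight of the elements off the subgroups. -/
theorem weight_U :
    ∑ g ∈ C.U, Nat.card ↥(centralizer ({g} : Set G)) + Nat.card G * (1 + C.M Fs) =
      Nat.card G * Nat.card (ConjClasses G) := by
  rw [mul_comm (Nat.card G) (Nat.card (ConjClasses G)), ← sum_centralizer, C.sum_split]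
  have h1 : Nat.card ↥(centralizer ({(1 : G)} : Set G)) = Nat.card G := by
    rw [show centralizer ({(1 : G)} : Set G) = ⊤ from eq_top_iff.2 fun g _ => by
      rw [mem_centralizer_singleton_iff]; simp, Subgroup.card_top]
  have hX : ∀ i, ∑ g ∈ C.X i, Nat.card ↥(centralizer ({g} : Set G)) =
      Nat.card G * (Fs i).F.card := fun i => by
    rw [Finset.sum_congr rfl fun g hg => C.card_centralizer_X hg, Finset.sum_const, smul_eq_mul,
      C.weight_X Fs]
  rw [h1, Fin.sum_univ_three, hX, hX, hX, Cfg.M]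
  ring

include Fs in
theorem weight_U_le :
    ∑ g ∈ C.U, Nat.card ↥(centralizer ({g} : Set G)) ≤ Nat.card G * (3 + C.V.card) := by
  have h := C.weight_U Fs
  have h2 := C.card_le Fs
  rw [← Nat.card_eq_fintype_card, card_irr_eq_card_conjClasses] at h2
  have h3 := Nat.mul_le_mul_left (Nat.card G) h2
  simp only [mul_add] at h h3 ⊢
  omega

include Fs in
/-- At most `3 + k` classes lie off the subgroups. -/
theorem classes_le (s : Finset G) (hs : ∀ g ∈ s, C.Off g)
    (hne : ∀ g ∈ s, ∀ g' ∈ s, g ≠ g' → ¬ IsConj g g') : s.card ≤ 3 + C.V.card := by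
  classical
  have hd : Set.PairwiseDisjoint (s : Set G) cls := by
    intro g hg g' hg' hgg
    refine Finset.disjoint_left.2 fun y h1 h2 => hne g hg g' hg' hgg ?_
    exact (mem_cls.1 h1).trans (mem_cls.1 h2).symm
  have hsub : s.biUnion cls ⊆ C.U := by
    intro y hy
    obtain ⟨g, hg, hgy⟩ := Finset.mem_biUnion.1 hy
    obtain ⟨x, rfl⟩ := isConj_iff.1 (mem_cls.1 hgy)
    exact C.mem_U.2 (Cfg.Off.conj C (hs g hg) x)
  have h := (Finset.sum_le_sum_of_subset (f := fun g => Nat.card ↥(centralizer ({g} : Set G))) hsub).trans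
    (C.weight_U_le Fs)
  rw [Finset.sum_biUnion hd, Finset.sum_congr rfl fun g _ => sum_cls g, Finset.sum_const, smul_eq_mul,
    mul_comm] at h
  exact Nat.le_of_mul_le_mul_left h Nat.card_pos

/-- A set of elements off the subgroups, closed under conjugation, has size divisible by `N`. -/
theorem N_dvd_card (s : Finset G) (hs : ∀ g ∈ s, C.Off g)
    (hcl : ∀ g ∈ s, ∀ x : G, x * g * x⁻¹ ∈ s) : C.N ∣ s.card := by
  classical
  rw [Finset.card_eq_sum_card_image (fun g => ConjClasses.mk g) s]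
  refine Finset.dvd_sum fun c hc => ?_
  obtain ⟨g, hg, rfl⟩ := Finset.mem_image.1 hc
  have he : (s.filter fun a => ConjClasses.mk a = ConjClasses.mk g) = cls g := by
    ext y
    rw [Finset.mem_filter, mem_cls, ConjClasses.mk_eq_mk_iff_isConj]
    refine ⟨fun h => h.2.symm, fun h => ⟨?_, h.symm⟩⟩
    obtain ⟨x, rfl⟩ := isConj_iff.1 h
    exact hcl g hg x
  rw [he]
  have hcop : C.N.Coprime (Nat.card ↥(centralizer ({g} : Set G))) :=
    Nat.Coprime.mul_left (Nat.Coprime.mul_left ((hs g hg).coprime_centralizer C 0)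
      ((hs g hg).coprime_centralizer C 1)) ((hs g hg).coprime_centralizer C 2)
  exact hcop.dvd_of_dvd_mul_right ((card_cls g).symm ▸ C.N_dvd)

/-- The class equation modulo `N`. -/
theorem class_equation :
    ∃ T, C.K * (2 * (C.n 1 * C.n 2) + C.n 0 * C.n 2 + C.n 0 * C.n 1) = 4 + 4 * (C.N * T) := by
  obtain ⟨T, hT⟩ := C.N_dvd_card C.U (fun g hg => C.mem_U.1 hg) fun g hg x =>
    C.mem_U.2 (Cfg.Off.conj C (C.mem_U.1 hg) x)
  refine ⟨T, ?_⟩
  have h := C.sum_split fun _ => 1
  simp only [Finset.sum_const, smul_eq_mul, mul_one, Finset.card_univ, Fin.sum_univ_three] at h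
  rw [← Nat.card_eq_fintype_card, ← C.N_mul_K, hT] at h
  have hx : ∀ i, (C.X i).card * (C.n i * idx i) + Nat.card G = Nat.card G * C.n i := fun i => by
    rw [C.card_X]
    have := C.five_le i
    obtain ⟨r, hr⟩ : ∃ r, C.n i = r + 1 := ⟨C.n i - 1, by omega⟩
    rw [hr, Nat.add_sub_cancel]; ring
  have h0 := hx 0; have h1 := hx 1; have h2 := hx 2
  rw [show idx 0 = 2 from rfl] at h0
  rw [show idx 1 = 4 from rfl] at h1
  rw [show idx 2 = 4 from rfl] at h2
  rw [← C.N_mul_K] at h0 h1 h2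
  have p0 := C.five_le 0; have p1 := C.five_le 1; have p2 := C.five_le 2
  -- divide by the orders
  have k0 : 2 * (C.X 0).card + C.K * (C.n 1 * C.n 2) = C.N * C.K := by
    refine Nat.eq_of_mul_eq_mul_left (show 0 < C.n 0 by omega) ?_
    have e : C.n 0 * (C.K * (C.n 1 * C.n 2)) = C.N * C.K := by unfold Cfg.N; ring
    rw [mul_add, e]; linarith
  have k1 : 4 * (C.X 1).card + C.K * (C.n 0 * C.n 2) = C.N * C.K := by
    refine Nat.eq_of_mul_eq_mul_left (show 0 < C.n 1 by omega) ?_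
    have e : C.n 1 * (C.K * (C.n 0 * C.n 2)) = C.N * C.K := by unfold Cfg.N; ring
    rw [mul_add, e]; linarith
  have k2 : 4 * (C.X 2).card + C.K * (C.n 0 * C.n 1) = C.N * C.K := by
    refine Nat.eq_of_mul_eq_mul_left (show 0 < C.n 2 by omega) ?_
    have e : C.n 2 * (C.K * (C.n 0 * C.n 1)) = C.N * C.K := by unfold Cfg.N; ring
    rw [mul_add, e]; linarith
  linarith

/-- The number of involutions. -/
noncomputable def I (_C : Cfg G) : ℕ := Nat.card {t : G // orderOf t = 2}

include C in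
theorem exists_involution : ∃ t : G, orderOf t = 2 := by
  haveI := Fact.mk Nat.prime_two
  refine exists_prime_orderOf_dvd_card' 2 ?_
  have h := (C.card_normalizer 0).symm ▸ card_subgroup_dvd_card (normalizer (C.A 0 : Set G))
  exact (Dvd.intro_left _ rfl : idx 0 ∣ C.n 0 * idx 0).trans h

theorem N_dvd_I : C.N ∣ C.I := by
  classical
  rw [Cfg.I, Nat.card_eq_fintype_card, Fintype.card_subtype]
  refine C.N_dvd_card _ (fun g hg => C.off_of_even (by rw [(Finset.mem_filter.1 hg).2])) ?_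
  intro g hg x
  exact Finset.mem_filter.2 ⟨Finset.mem_univ _, by rw [Invol.orderOf_conj_eq]; exact (Finset.mem_filter.1 hg).2⟩

theorem I_pos : 0 < C.I := by
  obtain ⟨t, ht⟩ := C.exists_involution
  exact Invol.involution_ne_one_count ht

/-- An element of a subgroup is inverted by an involution. -/
theorem exists_inverting (i : Fin 3) :
    ∃ w : G, orderOf w = 2 ∧ ∀ a ∈ C.A i, w * a * w⁻¹ = a⁻¹ := by
  haveI := Fact.mk Nat.prime_two
  obtain ⟨⟨w, hwN⟩, hwo⟩ := exists_prime_orderOf_dvd_card' (G := ↥(normalizer (C.A i : Set G))) 2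
    (by rw [C.card_normalizer]; exact (two_dvd_idx i).trans (Dvd.intro_left _ rfl))
  rw [orderOf_mk] at hwo
  refine ⟨w, hwo, fun a ha => ?_⟩
  have hwA : w ∉ C.A i := fun h =>
    (Nat.not_even_iff_odd.2 (C.odd_n i)) (even_iff_two_dvd.2
      (hwo ▸ Subgroup.orderOf_dvd_natCard _ h))
  set b := w * a * w⁻¹ with hb
  have hbA : b ∈ C.A i := (mem_normalizer_iff.1 hwN a).1 ha
  have hfix : w * (a * b) * w⁻¹ = a * b := by
    have e : w * b * w⁻¹ = a := by
      rw [hb, Invol.inv_eq_self hwo]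
      calc w * (w * a * w) * w = (w * w) * a * (w * w) := by group
        _ = a := by rw [Invol.inv_mul_self hwo]; group
    calc w * (a * b) * w⁻¹ = (w * a * w⁻¹) * (w * b * w⁻¹) := by group
      _ = b * a := by rw [e]
      _ = a * b := (C.isCA i).comm b hbA a ha
  have h1 : a * b = 1 := by
    by_contra hne
    exact hwA ((C.isCA i).fix (mul_mem ha hbA) hne hfix)
  exact eq_inv_of_mul_eq_one_right h1

theorem pairs_X {i : Fin 3} {g : G} (hg : g ∈ C.X i) :
    Nat.card {p : G × G // orderOf p.1 = 2 ∧ orderOf p.2 = 2 ∧ p.1 * p.2 = g} = C.n i := by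
  obtain ⟨hg1, x, hx⟩ := C.mem_X.1 hg
  obtain ⟨w, hw, hinv⟩ := C.exists_inverting i
  have ha1 : x * g * x⁻¹ ≠ 1 := fun e => hg1 (conj_eq_one_iff.1 e)
  have hodd := C.odd_n i
  have hsq : ∀ {a : G}, a ∈ C.A i → a ≠ 1 → a * a ≠ 1 := fun {a} ha ha1 he => by
    have h2 := Invol.orderOf_eq_two_of ha1 he
    exact (Nat.not_even_iff_odd.2 hodd) (even_iff_two_dvd.2 (h2 ▸ Subgroup.orderOf_dvd_natCard _ ha))
  have hg2 : g * g ≠ 1 := fun e => hsq hx ha1 (by
    calc x * g * x⁻¹ * (x * g * x⁻¹) = x * (g * g) * x⁻¹ := by group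
      _ = 1 := by rw [e]; group)
  have hg₀ : (x⁻¹ * w * x) * g * (x⁻¹ * w * x)⁻¹ = g⁻¹ := by
    calc (x⁻¹ * w * x) * g * (x⁻¹ * w * x)⁻¹ = x⁻¹ * (w * (x * g * x⁻¹) * w⁻¹) * x := by group
      _ = x⁻¹ * (x * g * x⁻¹)⁻¹ * x := by rw [hinv _ hx]
      _ = g⁻¹ := by group
  rw [Invol.card_pairs_eq_inverting hg2, ← C.card_centralizer_X hg,
    ← Invol.card_inverting_of_conj g _ hg₀]
  refine Nat.card_congr (Equiv.subtypeEquivRight fun t => ⟨fun h => h.2, fun h => ⟨?_, h⟩⟩)
  refine Invol.orderOf_eq_two_of (fun e => hg2 ?_) ?_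
  · rw [e] at h
    simp only [one_mul, inv_one, mul_one] at h
    exact eq_inv_iff_mul_eq_one.1 h
  · by_contra hne
    have hc : (x * t * x⁻¹) * (x * t * x⁻¹) ∈ C.A i := by
      rw [← C.hsc i _ hx ha1, mem_centralizer_singleton_iff]
      have h2 : t * t * g = g * (t * t) := by
        have h3 : t * g⁻¹ * t⁻¹ = g := by
          rw [← conj_inv, h, inv_inv]
        calc t * t * g = t * (t * g * t⁻¹) * t⁻¹ * (t * t) := by group
          _ = g * (t * t) := by rw [h, h3]
      calc x * t * x⁻¹ * (x * t * x⁻¹) * (x * g * x⁻¹) = x * (t * t * g) * x⁻¹ := by group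
        _ = x * (g * (t * t)) * x⁻¹ := by rw [h2]
        _ = _ := by group
    have hne' : (x * t * x⁻¹) * (x * t * x⁻¹) ≠ 1 := fun e => hne ((conj_eq_one_iff (a := x) (b := t * t)).1 (by
      calc x * (t * t) * x⁻¹ = _ := by group
        _ = 1 := e))
    have htA : x * t * x⁻¹ ∈ C.A i := by
      rw [← C.hsc i _ hc hne', mem_centralizer_singleton_iff]
      group
    have := (C.isCA i).comm _ htA _ hx
    refine hsq hx ha1 ?_
    have h4 : x * g * x⁻¹ = (x * g * x⁻¹)⁻¹ := by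
      calc x * g * x⁻¹ = (x * g * x⁻¹) * (x * t * x⁻¹) * (x * t * x⁻¹)⁻¹ := by group
        _ = (x * t * x⁻¹) * (x * g * x⁻¹) * (x * t * x⁻¹)⁻¹ := by rw [this]
        _ = x * (t * g * t⁻¹) * x⁻¹ := by group
        _ = (x * g * x⁻¹)⁻¹ := by rw [h]; group
    exact eq_inv_iff_mul_eq_one.1 h4

/-- The pairs of involutions. -/
theorem involution_pairs :
    Nat.card G * C.M Fs ≤ C.I ^ 2 ∧ C.I ^ 2 ≤ Nat.card G * (C.M Fs + 3 + C.V.card) + C.I := by
  have hs := Invol.sq_card_involutions (G := G)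
  rw [C.sum_split, Invol.card_pairs_one] at hs
  have hX : ∀ i, ∑ g ∈ C.X i,
      Nat.card {p : G × G // orderOf p.1 = 2 ∧ orderOf p.2 = 2 ∧ p.1 * p.2 = g} =
      Nat.card G * (Fs i).F.card := fun i => by
    rw [Finset.sum_congr rfl fun g hg => C.pairs_X hg, Finset.sum_const, smul_eq_mul, C.weight_X Fs]
  rw [Fin.sum_univ_three, hX, hX, hX] at hs
  have hU : ∑ g ∈ C.U, Nat.card {p : G × G // orderOf p.1 = 2 ∧ orderOf p.2 = 2 ∧ p.1 * p.2 = g} ≤
      Nat.card G * (3 + C.V.card) :=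
    (Finset.sum_le_sum fun g _ => Invol.card_pairs_le_centralizer g).trans (C.weight_U_le Fs)
  unfold Cfg.I Cfg.M
  simp only [mul_add] at hU ⊢
  constructor <;> omega

end Cfg

end Cfsg.Lib.ThreeCC
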