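import Cfsg.Agent.Lib.ThreeCC.Spectrum
import Cfsg.Agent.Lib.ThreeCC.Arith
import Cfsg.Agent.Lib.CIT.Consumers.Inputs
import Cfsg.Agent.Lib.Concrete.MTwentyOne
import Cfsg.Agent.Lib.FusionSys.SylowTwoPSL
import Cfsg.Agent.Lib.GW.DGroupDihedral

/-!
# A simple group with three strongly self-centralizing subgroups is a Suzuki group
-/

set_option autoImplicit false
set_option linter.unusedSectionVars false
set_option linter.style.haveILetI false
set_option maxHeartbeats 1000000

namespace Cfsg.Lib.ThreeCC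

open Cfsg Cfsg.Lib.Char Subgroup

universe u

/-- The projective group in characteristic two has no element of order four. -/
theorem psl_two_orderOf_ne_four {F : Type} [Field F] [Fintype F] [CharP F 2]
    (g : Matrix.ProjectiveSpecialLinearGroup (Fin 2) F) : orderOf g ≠ 4 := by
  intro hg
  obtain ⟨x, rfl⟩ := QuotientGroup.mk'_surjective _ g
  have h2 : (2 : F) = 0 := CharTwo.two_eq_zero
  have h4 : (QuotientGroup.mk' (center (Matrix.SpecialLinearGroup (Fin 2) F))) (x ^ 4) = 1 := by rw [map_pow, ← hg]; exact pow_orderOf_eq_one _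
  have hmem := (QuotientGroup.eq_one_iff _).1 h4
  obtain ⟨r, hr, hx⟩ := Matrix.SpecialLinearGroup.mem_center_iff.mp hmem
  have hdet := x.2
  rw [Matrix.det_fin_two] at hdet
  have e00 := congrFun (congrFun hx 0) 0
  have e11 := congrFun (congrFun hx 1) 1
  simp only [Matrix.scalar_apply, Matrix.diagonal_apply_eq] at e00 e11
  rw [Matrix.SpecialLinearGroup.coe_pow] at e00 e11
  simp only [pow_succ, pow_zero, one_mul, Matrix.mul_apply, Fin.sum_univ_two] at e00 e11
  set a := (x : Matrix (Fin 2) (Fin 2) F) 0 0 with ha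
  set b := (x : Matrix (Fin 2) (Fin 2) F) 0 1 with hb
  set c := (x : Matrix (Fin 2) (Fin 2) F) 1 0 with hc
  set d := (x : Matrix (Fin 2) (Fin 2) F) 1 1 with hd
  have ht : (a + d) ^ 4 = 0 := by
    linear_combination -e00 - e11 + (r + 2 * (a + d) ^ 2 * (a * d - b * c) - (a * d - b * c) ^ 2) * h2
  have hda : d = a := by
    have h := eq_zero_of_pow_eq_zero ht
    linear_combination h - a * h2
  have hsq : x ^ 2 = 1 := by
    apply Subtype.ext
    rw [Matrix.SpecialLinearGroup.coe_pow, Matrix.SpecialLinearGroup.coe_one]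
    ext i j
    fin_cases i <;> fin_cases j <;>
      simp only [pow_two, Matrix.mul_apply, Fin.sum_univ_two, Fin.zero_eta, Fin.mk_one,
        Matrix.one_apply_eq, ne_eq, zero_ne_one, one_ne_zero, not_false_eq_true, Matrix.one_apply_ne,
        ← ha, ← hb, ← hc, ← hd]
    · linear_combination hdet + b * c * h2 - a * hda
    · linear_combination a * b * h2 + b * hda
    · linear_combination a * c * h2 + c * hda
    · linear_combination hdet + b * c * h2 + d * hda
  have h : orderOf ((QuotientGroup.mk' (center (Matrix.SpecialLinearGroup (Fin 2) F))) x) ∣ 2 := by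
    rw [orderOf_dvd_iff_pow_eq_one, ← map_pow, hsq, map_one]
  rw [show orderOf ((QuotientGroup.mk' (center (Matrix.SpecialLinearGroup (Fin 2) F))) x) = 4 from hg] at h
  norm_num at h

variable {G : Type u} [Group G] [Fintype G]

namespace Cfg

variable (C : Cfg G)

include C in
/-- An element of order four normalizing the second subgroup. -/
theorem exists_order_four : ∃ y : G, orderOf y = 4 := by
  classical
  set A := C.A 1 with hA
  set N := normalizer (A : Set G) with hN
  obtain ⟨a, ha, ha1⟩ := C.exists_mem_ne_one 1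
  have hodd := C.odd_n 1
  by_cases hall : ∀ g ∈ N, g * g ∈ A
  · exfalso
    have hinv : ∀ g ∈ N, g ∉ A → g * a * g⁻¹ = a⁻¹ ∧ g * g = 1 := by
      intro g hg hgA
      have hsq : g * g = 1 := by
        by_contra h
        exact hgA ((C.isCA 1).fix (hall g hg) h (by group))
      refine ⟨?_, hsq⟩
      have hb : g * a * g⁻¹ ∈ A := (mem_normalizer_iff.1 hg a).1 ha
      have hgi : g⁻¹ = g := inv_eq_of_mul_eq_one_left hsq
      by_contra hne
      have hp : a * (g * a * g⁻¹) ≠ 1 := fun e => hne (eq_inv_of_mul_eq_one_right e)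
      refine hgA ((C.isCA 1).fix (mul_mem ha hb) hp ?_)
      calc g * (a * (g * a * g⁻¹)) * g⁻¹ = (g * a * g⁻¹) * (g * g * a * (g⁻¹ * g⁻¹)) := by group
        _ = (g * a * g⁻¹) * a := by rw [← mul_inv_rev, hsq]; group
        _ = a * (g * a * g⁻¹) := (C.isCA 1).comm _ hb a ha
    have hidx : (A.subgroupOf N).index = 4 := C.he 1
    obtain ⟨⟨u, hu⟩, huA⟩ : ∃ u : N, u ∉ A.subgroupOf N := by
      by_contra hc
      push Not at hc
      rw [show A.subgroupOf N = ⊤ from eq_top_iff.2 fun u _ => hc u, index_top] at hidx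
      omega
    obtain ⟨⟨v, hv⟩, hvA, hvu⟩ : ∃ v : N, v ∉ A.subgroupOf N ∧ v * (⟨u, hu⟩ : N) ∉ A.subgroupOf N := by
      by_contra hc
      push Not at hc
      have := Subgroup.index_eq_two_iff (H := A.subgroupOf N)
      have h2 : (A.subgroupOf N).index = 2 := this.2 ⟨⟨u, hu⟩, fun b => by
        by_cases hb : b ∈ A.subgroupOf N
        · exact Or.inr ⟨hb, fun h => huA ((mul_mem_cancel_left hb).1 h)⟩
        · exact Or.inl ⟨hc b hb, hb⟩⟩
      omega
    rw [mem_subgroupOf] at huA hvA hvu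
    obtain ⟨hu1, -⟩ := hinv u hu huA
    obtain ⟨hv1, -⟩ := hinv v hv hvA
    obtain ⟨hvu1, -⟩ := hinv (v * u) (mul_mem hv hu) hvu
    have : a = a⁻¹ := by
      calc a = (a⁻¹)⁻¹ := by group
        _ = (v * a * v⁻¹)⁻¹ := by rw [hv1]
        _ = v * (u * a * u⁻¹) * v⁻¹ := by rw [hu1]; group
        _ = v * u * a * (v * u)⁻¹ := by group
        _ = a⁻¹ := hvu1
    have h2 := Invol.orderOf_eq_two_of ha1 (eq_inv_iff_mul_eq_one.1 this)
    exact (Nat.not_even_iff_odd.2 hodd) (even_iff_two_dvd.2 ((h2.symm.dvd).trans (Subgroup.orderOf_dvd_natCard _ ha)))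
  · push Not at hall
    obtain ⟨g, hg, hgg⟩ := hall
    refine ⟨g, ?_⟩
    haveI : (A.subgroupOf N).Normal := normal_subgroupOf_iff_le_normalizer le_normalizer |>.2 le_rfl
    have h4 := Subgroup.pow_index_mem (A.subgroupOf N) (⟨g, hg⟩ : N)
    rw [show (A.subgroupOf N).index = 4 from C.he 1, mem_subgroupOf] at h4
    have hgA : g ∉ A := fun h => hgg (mul_mem h h)
    have h41 : g ^ 4 = 1 := by
      by_contra h
      exact hgA ((C.isCA 1).fix (show g ^ 4 ∈ A from h4) h (by group))
    haveI := Fact.mk Nat.prime_two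
    have h := orderOf_eq_prime_pow (p := 2) (n := 1) (x := g) (fun h => hgg (by
      rw [pow_one, pow_two] at h; rw [h]; exact one_mem _)) (by norm_num; exact h41)
    simpa using h

/-- The elements whose centralizer contains a given one. -/
theorem off_of_commute {g t : G} (hg : g ≠ 1) (ht : orderOf t = 2) (h : Commute g t) : C.Off g := by
  refine ⟨hg, fun i x hx => ?_⟩
  have h1 : x * t * x⁻¹ ∈ C.A i := by
    rw [← C.hsc i _ hx fun e => hg (conj_eq_one_iff.1 e), mem_centralizer_singleton_iff]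
    calc x * t * x⁻¹ * (x * g * x⁻¹) = x * (t * g) * x⁻¹ := by group
      _ = x * (g * t) * x⁻¹ := by rw [h.eq]
      _ = _ := by group
  have h2 : (2 : ℕ) ∣ C.n i := by
    rw [← ht, ← Invol.orderOf_conj_eq x t]
    exact Subgroup.orderOf_dvd_natCard _ h1
  exact (Nat.not_even_iff_odd.2 (C.odd_n i)) (even_iff_two_dvd.2 h2)

/-- Elements of different orders are not conjugate. -/
theorem not_isConj_of_orderOf {g g' : G} (h : orderOf g ≠ orderOf g') : ¬ IsConj g g' := fun hc => by
  obtain ⟨x, rfl⟩ := isConj_iff.1 hc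
  exact h (Invol.orderOf_conj_eq x g).symm

variable (Fs : ∀ i, Fam (C.A i) (idx i))

include Fs in
theorem card_orders_le (s : Finset G) (hs : ∀ g ∈ s, C.Off g)
    (hinj : ∀ g ∈ s, ∀ g' ∈ s, orderOf g = orderOf g' → g = g' ∨ ¬ IsConj g g') :
    s.card ≤ 3 + C.V.card :=
  C.classes_le Fs s hs fun g hg g' hg' hne =>
    if he : orderOf g = orderOf g' then (hinj g hg g' hg' he).resolve_left hne
    else not_isConj_of_orderOf he

include C in
/-- An odd prime divisor of a centralizer of an involution gives four classes. -/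
theorem four_classes {t r : G} {p : ℕ} (ht : orderOf t = 2) (hp : p.Prime) (hp2 : p ≠ 2)
    (hr : orderOf r = p) (hc : Commute r t) :
    ∃ s : Finset G, s.card = 4 ∧ (∀ g ∈ s, C.Off g) ∧
      (∀ g ∈ s, ∀ g' ∈ s, orderOf g = orderOf g' → g = g') ∧
      (∀ g ∈ s, orderOf g = 2 → g = t) ∧ t ∈ s := by
  classical
  obtain ⟨y, hy⟩ := C.exists_order_four
  have hrt : orderOf (r * t) = p * 2 := by
    rw [hc.orderOf_mul_eq_mul_orderOf_of_coprime (by
      rw [hr, ht]; exact (Nat.coprime_primes hp Nat.prime_two).2 hp2), hr, ht]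
  have hp3 : 3 ≤ p := lt_of_le_of_ne hp.two_le (Ne.symm hp2)
  have h4 : p ≠ 4 := fun h => by rw [h] at hp; norm_num at hp
  have h4' : p * 2 ≠ 4 := by omega
  refine ⟨{t, y, r, r * t}, ?_, ?_, ?_, ?_, by simp⟩
  · refine Finset.card_eq_four.2 ⟨t, y, r, r * t, ?_, ?_, ?_, ?_, ?_, ?_, rfl⟩ <;>
      (intro e; have := congrArg orderOf e; omega)
  · intro g hg
    simp only [Finset.mem_insert, Finset.mem_singleton] at hg
    rcases hg with rfl | rfl | rfl | rfl
    · exact C.off_of_even (by rw [ht])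
    · exact C.off_of_even (by rw [hy]; norm_num)
    · exact C.off_of_commute (fun e => hp.ne_one (by rw [← hr, e, orderOf_one])) ht hc
    · exact C.off_of_even (by rw [hrt]; exact dvd_mul_left 2 p)
  · intro g hg g' hg' he
    simp only [Finset.mem_insert, Finset.mem_singleton] at hg hg'
    rcases hg with rfl | rfl | rfl | rfl <;> rcases hg' with rfl | rfl | rfl | rfl <;>
      first | rfl | omega
  · intro g hg he
    simp only [Finset.mem_insert, Finset.mem_singleton] at hg
    rcases hg with rfl | rfl | rfl | rfl <;> first | rfl | omega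

include Fs in
theorem N_ge : 585 ≤ C.N := by
  have h0 := C.five_le 0
  have h1 : 9 ≤ C.n 1 ∧ C.n 1 % 4 = 1 := by
    have := (Fs 1).card_eq
    have := C.two_le_card Fs 1
    have h : idx 1 = 4 := rfl
    simp only [Cfg.n, h] at *
    omega
  have h2 : 9 ≤ C.n 2 ∧ C.n 2 % 4 = 1 := by
    have := (Fs 2).card_eq
    have := C.two_le_card Fs 2
    have h : idx 2 = 4 := rfl
    simp only [Cfg.n, h] at *
    omega
  have hne : C.n 1 ≠ C.n 2 := fun e => by
    have := C.coprime_n (show (1 : Fin 3) ≠ 2 by decide)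
    rw [e, Nat.coprime_self] at this
    omega
  have h12 : 117 ≤ C.n 1 * C.n 2 := by
    rcases Nat.lt_or_ge (C.n 1) (C.n 2) with h | h
    · calc 117 = 9 * 13 := rfl
        _ ≤ _ := Nat.mul_le_mul h1.1 (by omega)
    · calc 117 = 13 * 9 := rfl
        _ ≤ _ := Nat.mul_le_mul (by omega) h2.1
  calc 585 = 5 * 117 := rfl
    _ ≤ C.n 0 * (C.n 1 * C.n 2) := Nat.mul_le_mul h0 h12
    _ = C.N := (mul_assoc _ _ _).symm

theorem odd_N : Odd C.N := ((C.odd_n 0).mul (C.odd_n 1)).mul (C.odd_n 2)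

variable [IsSimpleGroup G] (hna : ¬ IsMulCommutative G)

include C hna in
theorem no_index_two (H : Subgroup G) : H.index ≠ 2 := by
  intro h
  haveI := normal_of_index_eq_two h
  rcases (show H.Normal from inferInstance).eq_bot_or_eq_top with e | e
  · rw [e, index_bot] at h
    obtain ⟨y, hy⟩ := C.exists_order_four
    have := orderOf_dvd_natCard y
    rw [hy, h] at this
    norm_num at this
  · rw [e, index_top] at h; omega

include hna in
theorem eight_dvd_K : 8 ∣ C.K := by
  haveI := Fact.mk Nat.prime_two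
  obtain ⟨S⟩ : Nonempty (Sylow 2 G) := inferInstance
  obtain ⟨y, hy⟩ := C.exists_order_four
  obtain ⟨Q, hQ⟩ := (IsPGroup.of_card (n := 2) (by rw [Nat.card_zpowers, hy]; norm_num) :
    IsPGroup 2 (zpowers y)).exists_le_sylow
  obtain ⟨j, hj⟩ := Q.2.exists_card_eq
  have hyQ : y ∈ (Q : Subgroup G) := hQ (mem_zpowers y)
  have h4 : 4 ∣ 2 ^ j := hj ▸ hy ▸ Subgroup.orderOf_dvd_natCard _ hyQ
  have hj3 : 3 ≤ j := by
    by_contra hlt
    have hj2 : j = 2 := by
      interval_cases j <;> first | rfl | (norm_num at h4)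
    refine absurd ?_ (fun ⟨H, hH⟩ => C.no_index_two hna H hH :
      ¬ ∃ H : Subgroup G, H.index = 2)
    refine Invol.exists_index_two_of_isCyclic (even_iff_two_dvd.2 (Dvd.dvd.trans
      (by rw [hy]; norm_num) (orderOf_dvd_natCard y))) Q ?_
    refine isCyclic_of_orderOf_eq_card (⟨y, hyQ⟩ : (Q : Subgroup G)) ?_
    rw [orderOf_mk, hy, hj, hj2]; norm_num
  have h8 : 8 ∣ C.N * C.K := by
    rw [C.N_mul_K]
    exact ((pow_dvd_pow 2 hj3).trans (hj ▸ card_subgroup_dvd_card _))
  exact ((Nat.coprime_two_left.2 C.odd_N).pow_left 3).dvd_of_dvd_mul_left h8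

include hna Fs in
/-- Only the principal family of characters occurs. -/
theorem V_empty : C.V.card = 0 := by
  classical
  by_contra hk0
  obtain ⟨h, hI⟩ := C.N_dvd_I
  have hK8 := C.eight_dvd_K hna
  have hlo := C.card_V_lt
  have hk2 := C.card_V_le
  obtain ⟨hp1, hp2⟩ := C.involution_pairs Fs
  obtain ⟨T, hT⟩ := C.class_equation
  rw [← C.N_mul_K, hI] at hp1 hp2
  have hM1 : C.K * C.M Fs ≤ C.N * (h * h) := Nat.le_of_mul_le_mul_left
    (by rw [← mul_assoc]; refine hp1.trans (le_of_eq ?_); ring) C.N_pos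
  have hM2 : C.N * (h * h) ≤ C.K * (C.M Fs + 3 + C.V.card) + h := Nat.le_of_mul_le_mul_left
    (by
      calc C.N * (C.N * (h * h)) = (C.N * h) ^ 2 := by ring
        _ ≤ _ := hp2
        _ = C.N * (C.K * (C.M Fs + 3 + C.V.card) + h) := by ring) C.N_pos
  -- the parameters
  set a := (Fs 0).F.card with hadef
  set b := (Fs 1).F.card with hbdef
  set c := (Fs 2).F.card with hcdef
  have ea : C.n 0 = 2 * a + 1 := (Fs 0).card_eq.symm
  have eb : C.n 1 = 4 * b + 1 := (Fs 1).card_eq.symm
  have ec : C.n 2 = 4 * c + 1 := (Fs 2).card_eq.symm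
  have hN585 := C.N_ge Fs
  have hKle := C.K_le
  have hMN : C.M Fs + 6 ≤ C.N := by
    have hM : C.M Fs = a + b + c := rfl
    have : C.n 1 * 1 * 1 ≤ C.n 0 * C.n 1 * C.n 2 := by
      have := C.five_le 0; have := C.five_le 2
      rw [mul_comm (C.n 0)]
      exact Nat.mul_le_mul (Nat.mul_le_mul le_rfl (by omega)) (by omega)
    have h02 : C.n 0 + C.n 1 + C.n 2 ≤ C.N := by
      have h0 := C.five_le 0; have h1 := C.five_le 1; have h2 := C.five_le 2
      have : 5 * 5 * C.n 2 ≤ C.N := Nat.mul_le_mul_right _ (Nat.mul_le_mul h0 h1)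
      have : 5 * C.n 1 * 5 ≤ C.N := Nat.mul_le_mul (Nat.mul_le_mul h0 le_rfl) h2
      have : C.n 0 * 5 * 5 ≤ C.N := Nat.mul_le_mul (Nat.mul_le_mul le_rfl h1) h2
      omega
    rw [hM]
    omega
  have hh : h < C.N := by
    by_contra hge
    push Not at hge
    have h1 : C.K * (C.M Fs + 3 + C.V.card) ≤ 3 * C.N * C.N := Nat.mul_le_mul hKle (by omega)
    have h2 : C.N * (C.N * h) ≤ C.N * (h * h) := Nat.mul_le_mul_left _ (Nat.mul_le_mul_right _ hge)
    have h3 : C.N * C.N * 4 ≤ C.N * C.N * h := Nat.mul_le_mul_left _ (by omega)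
    have h4 : 2 * h ≤ C.N * C.N * h := Nat.mul_le_mul_right _
      (le_trans (by omega) (Nat.le_mul_of_pos_left C.N C.N_pos))
    have h5 : C.N * C.N * h = C.N * (C.N * h) := mul_assoc _ _ _
    have h6 : C.N * C.N * 4 = 4 * C.N * C.N := by ring
    have h7 : 0 < C.N * C.N := Nat.mul_pos C.N_pos C.N_pos
    have h8 : C.N * C.N * h = 2 * h + (C.N * C.N - 2) * h := by
      rw [← add_mul]; congr 1; have : 2 ≤ C.N * C.N := le_trans (by omega) (Nat.le_mul_of_pos_left C.N C.N_pos)
      omega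
    have h9 : (C.N * C.N - 2) * 4 ≤ (C.N * C.N - 2) * h := Nat.mul_le_mul_left _ (by omega)
    have h10 : 3 * C.N * C.N = 3 * (C.N * C.N) := mul_assoc _ _ _
    have h11 : 585 * 585 ≤ C.N * C.N := Nat.mul_le_mul hN585 hN585
    omega
  have hF : (h - C.V.card) * (h - C.V.card) * C.N + C.V.card * (C.M Fs + 4) * C.N ≤
      (C.M Fs + 4) * C.K := by
    refine Nat.le_of_mul_le_mul_left ?_ C.N_pos
    rcases Nat.lt_or_ge h C.V.card with hlt | hge
    · rw [Nat.sub_eq_zero_of_le hlt.le, zero_mul, zero_mul, zero_add]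
      calc C.N * (C.V.card * (C.M Fs + 4) * C.N) = C.N * ((C.M Fs + 4) * (C.V.card * C.N)) := by ring
        _ ≤ _ := Nat.mul_le_mul_left _ (Nat.mul_le_mul_left _ hlo.le)
    · obtain ⟨r, rfl⟩ := Nat.exists_eq_add_of_le hge
      rw [Nat.add_sub_cancel_left]
      have hb' := C.sum_bound Fs (r * C.N) (by rw [hI]; ring_nf; omega)
      rw [← C.N_mul_K] at hb'
      calc C.N * (r * r * C.N + C.V.card * (C.M Fs + 4) * C.N)
          = r * C.N * (r * C.N) + C.V.card * (C.M Fs + 4) * (C.N * C.N) := by ring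
        _ ≤ _ := hb'
        _ = C.N * ((C.M Fs + 4) * C.K) := by ring
  have hNeq : C.N = (2 * a + 1) * (4 * b + 1) * (4 * c + 1) := by rw [← ea, ← eb, ← ec]; rfl
  have hMeq : C.M Fs = a + b + c := rfl
  have g01 : Nat.gcd (C.n 0) (C.n 1) = 1 := C.coprime_n (by decide)
  have g02 : Nat.gcd (C.n 0) (C.n 2) = 1 := C.coprime_n (by decide)
  have g12 : Nat.gcd (C.n 1) (C.n 2) = 1 := C.coprime_n (by decide)
  rw [ea, eb] at g01
  rw [ea, ec] at g02
  rw [eb, ec] at g12
  rw [hNeq] at hlo hKle hh hM1 hM2 hF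
  rw [hMeq] at hM1 hM2 hF
  rw [ea, eb, ec, hNeq] at hT
  obtain ⟨hk1, hsol⟩ := Arith.solutions (k := C.V.card) (by omega) (C.two_le_card Fs 0)
    (C.two_le_card Fs 1) (C.two_le_card Fs 2) g01 g02 g12 hK8 hlo hKle hT hh hM1 hM2 hF
  -- a central involution of a Sylow subgroup
  haveI := Fact.mk Nat.prime_two
  obtain ⟨y, hy⟩ := C.exists_order_four
  obtain ⟨S⟩ : Nonempty (Sylow 2 G) := inferInstance
  have hS2 : 2 ∣ Nat.card ↥(S : Subgroup G) := by
    refine S.dvd_card_of_dvd_card ?_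
    exact Dvd.dvd.trans (by rw [hy]; norm_num) (orderOf_dvd_natCard y)
  haveI : Nontrivial ↥(S : Subgroup G) := (nontrivial_iff_ne_bot _).2 fun e => by
    rw [e, Subgroup.card_bot] at hS2; norm_num at hS2
  haveI := IsPGroup.center_nontrivial S.2
  obtain ⟨z, hz⟩ := exists_prime_orderOf_dvd_card' (G := ↥(center ↥(S : Subgroup G))) 2 (by
    obtain ⟨n, hn⟩ := (S.2.to_subgroup (center ↥(S : Subgroup G))).exists_card_eq
    rcases n with _ | n
    · exact absurd (Finite.card_le_one_iff_subsingleton.1 (by rw [hn, pow_zero]))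
        (not_subsingleton _)
    · rw [hn, pow_succ]; exact dvd_mul_left 2 _)
  set t : G := ((z : ↥(S : Subgroup G)) : G) with htdef
  have ht : orderOf t = 2 := by rw [htdef, Subgroup.orderOf_coe, Subgroup.orderOf_coe, hz]
  set Z := centralizer ({t} : Set G) with hZ
  have hSZ : (S : Subgroup G) ≤ Z := fun q hq => mem_centralizer_singleton_iff.2
    (congrArg Subtype.val (mem_center_iff.1 z.2 ⟨q, hq⟩))
  have hdiv : C.N ∣ (cls t).card := by
    refine C.N_dvd_card _ (fun g hg => ?_) fun g hg x => ?_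
    · obtain ⟨x, rfl⟩ := isConj_iff.1 (mem_cls.1 hg)
      exact Cfg.Off.conj C (C.off_of_even (by rw [ht])) x
    · exact mem_cls.2 ((mem_cls.1 hg).trans (isConj_iff.2 ⟨x, rfl⟩))
  obtain ⟨r, hr⟩ := hdiv
  have hrK : r * Nat.card ↥Z = C.K := by
    refine Nat.eq_of_mul_eq_mul_left C.N_pos ?_
    rw [← mul_assoc, ← hr, card_cls, C.N_mul_K]
  have hrodd : ¬ 2 ∣ r := by
    intro h2
    refine S.not_dvd_index ((h2.trans ?_).trans (index_dvd_of_le hSZ))
    refine ⟨C.N, Nat.eq_of_mul_eq_mul_left (Nat.card_pos (α := ↥Z)) ?_⟩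
    rw [Subgroup.card_mul_index, ← C.N_mul_K, ← hrK]; ring
  have hclsI : (cls t).card ≤ C.I := by
    rw [Cfg.I, Nat.card_eq_fintype_card, Fintype.card_subtype]
    refine Finset.card_le_card fun g hg => Finset.mem_filter.2 ⟨Finset.mem_univ _, ?_⟩
    obtain ⟨x, rfl⟩ := isConj_iff.1 (mem_cls.1 hg)
    rw [Invol.orderOf_conj_eq, ht]
  rw [hr, hI] at hclsI
  have hrh : r ≤ h := Nat.le_of_mul_le_mul_left hclsI C.N_pos
  have hr1 : r = 1 := by
    have hdvd : r ∣ C.K := Dvd.intro _ hrK
    rcases hsol with ⟨h1, h2⟩ | ⟨h1, h2⟩ | ⟨h1, h2⟩ <;> rw [h2] at hdvd <;> rw [h1] at hrh <;>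
      interval_cases r <;> first | rfl | omega
  rw [hr1, one_mul] at hrK
  rw [hr1, mul_one] at hr
  obtain ⟨p, hpp, hp2', hpd⟩ : ∃ p, p.Prime ∧ p ≠ 2 ∧ p ∣ C.K := by
    rcases hsol with ⟨-, h2⟩ | ⟨-, h2⟩ | ⟨-, h2⟩
    · exact ⟨71, by norm_num, by norm_num, by rw [h2]; norm_num⟩
    · exact ⟨113, by norm_num, by norm_num, by rw [h2]; norm_num⟩
    · exact ⟨13, by norm_num, by norm_num, by rw [h2]; norm_num⟩
  haveI := Fact.mk hpp
  obtain ⟨⟨w, hw⟩, hwo⟩ := exists_prime_orderOf_dvd_card' (G := ↥Z) p (hrK ▸ hpd)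
  rw [orderOf_mk] at hwo
  obtain ⟨s, hs4, hsoff, hsinj, hs2, hts⟩ := C.four_classes ht hpp hp2' hwo
    (mem_centralizer_singleton_iff.1 hw)
  have hone : ∀ t' : G, orderOf t' = 2 → t' ∈ cls t := by
    intro t' ht'
    by_contra hn
    have hts' : t' ∉ s := fun hm => hn (by rw [hs2 t' hm ht']; exact mem_cls.2 (IsConj.refl t))
    have := C.card_orders_le Fs (insert t' s) (fun g hg => by
      rcases Finset.mem_insert.1 hg with rfl | hg
      · exact C.off_of_even (by rw [ht'])
      · exact hsoff g hg) (fun g hg g' hg' he => by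
      rcases Finset.mem_insert.1 hg with e1 | e1 <;> rcases Finset.mem_insert.1 hg' with e2 | e2
      · exact Or.inl (e1.trans e2.symm)
      · right; rw [hs2 g' e2 (he.symm.trans (e1 ▸ ht')), e1]
        exact fun hc => hn (mem_cls.2 hc.symm)
      · right; rw [hs2 g e1 (he.trans (e2 ▸ ht')), e2]
        exact fun hc => hn (mem_cls.2 hc)
      · exact Or.inl (hsinj g e1 g' e2 he))
    rw [Finset.card_insert_of_notMem hts', hs4, hk1] at this
    omega
  have hIle : C.I ≤ (cls t).card := by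
    rw [Cfg.I, Nat.card_eq_fintype_card, Fintype.card_subtype]
    exact Finset.card_le_card fun g hg => hone g (Finset.mem_filter.1 hg).2
  rw [hr, hI] at hIle
  have : h ≤ 1 := Nat.le_of_mul_le_mul_left (by rw [mul_one]; exact hIle) C.N_pos
  omega

include hna Fs C in
theorem isCIT : CIT.IsCIT G := by
  intro t ht
  haveI := Fact.mk Nat.prime_two
  by_contra hn
  obtain ⟨p, hpp, hpd, hp2⟩ : ∃ p, p.Prime ∧ p ∣ Nat.card ↥(centralizer ({t} : Set G)) ∧ p ≠ 2 := by
    by_contra hc
    push Not at hc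
    exact hn (IsPGroup.of_card (Nat.eq_prime_pow_of_unique_prime_dvd Nat.card_pos.ne'
      fun {d} hd hdd => hc d hd hdd))
  haveI := Fact.mk hpp
  obtain ⟨⟨w, hw⟩, hwo⟩ := exists_prime_orderOf_dvd_card'
    (G := ↥(centralizer ({t} : Set G))) p hpd
  rw [orderOf_mk] at hwo
  obtain ⟨s, hs4, hsoff, hsinj, -, -⟩ := C.four_classes ht hpp hp2 hwo
    (mem_centralizer_singleton_iff.1 hw)
  have := C.card_orders_le Fs s hsoff fun g hg g' hg' he => Or.inl (hsinj g hg g' hg' he)
  rw [hs4, C.V_empty Fs hna] at this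
  omega

include hna Fs C in
/-- The group is a Suzuki group. -/
theorem isoSuzuki : Lie.IsoSuzuki G := by
  classical
  haveI := Fact.mk Nat.prime_two
  have hcit := C.isCIT Fs hna
  obtain ⟨y, hy⟩ := C.exists_order_four
  have hbig : 4680 ≤ Nat.card G := by
    rw [← C.N_mul_K]
    have hKpos : 0 < C.K := Nat.pos_of_ne_zero fun e => by
      have h := C.N_mul_K; rw [e, mul_zero] at h; exact Nat.card_pos.ne h
    exact Nat.mul_le_mul (C.N_ge Fs) (Nat.le_of_dvd hKpos (C.eight_dvd_K hna))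
  rcases Cfsg.Lib.CIT.citListHolds G hna hcit with ⟨F, iF, iF', hq, ⟨e⟩⟩ | ⟨F, iF, iF', hF, ⟨e⟩⟩ | hS
  · exfalso
    have hcard := Nat.card_congr e.toEquiv
    rcases hq with h9 | ⟨n, hn⟩ | ⟨hp, k, hk⟩
    · have h := Cfsg.Lib.GW.DGroup.card_psl_two (F := F) (by rw [h9]; decide)
      rw [← hcard, h9] at h
      omega
    · haveI : CharP F 2 := by
        obtain ⟨p, hpc⟩ := CharP.exists F
        haveI := hpc
        obtain ⟨m, hpp, hm⟩ := FiniteField.card F p
        have hd : p ∣ 2 ^ n := hn ▸ hm ▸ dvd_pow_self p m.ne_zero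
        have := (Nat.prime_dvd_prime_iff_eq hpp Nat.prime_two).1 (hpp.dvd_of_dvd_pow hd)
        exact this ▸ hpc
      exact psl_two_orderOf_ne_four (e y) (by rw [MulEquiv.orderOf_eq, hy])
    · have hodd : Odd (Fintype.card F) := by
        rcases hp.eq_two_or_odd' with h2 | h2
        · exfalso
          haveI : Fact (Nat.Prime (Fintype.card F)) := ⟨hp⟩
          haveI : CharP F 2 := h2 ▸ charP_of_card_eq_prime (R := F) rfl
          exact psl_two_orderOf_ne_four (e y) (by rw [MulEquiv.orderOf_eq, hy])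
        · exact h2
      have h := Cfsg.Lib.GW.DGroup.card_psl_two (F := F) hodd
      rw [← hcard] at h
      generalize hqdef : Fintype.card F = q at h hk hodd
      have hq21 : 21 ≤ q := by
        by_contra hlt
        have : q ^ 3 ≤ 20 ^ 3 := Nat.pow_le_pow_left (by omega) 3
        omega
      have hk5 : 5 ≤ k := by
        by_contra hlt
        have : 2 ^ k ≤ 2 ^ 4 := Nat.pow_le_pow_right (by norm_num) (by omega)
        omega
      have h32 : 2 ^ 5 ∣ 2 ^ k := pow_dvd_pow 2 hk5
      have hsq : q ^ 2 - 1 = (q + 1) * (q - 1) := by rw [← Nat.sq_sub_sq, one_pow]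
      have h64 : 64 ∣ q ^ 2 - 1 := by
        rw [hsq]
        rcases hk with hk | hk
        · have e1 : q - 1 = 2 ^ k := by omega
          have e2 : 2 ∣ q + 1 := by omega
          rw [e1]; exact mul_dvd_mul e2 h32
        · have e2 : 2 ∣ q - 1 := by omega
          rw [hk]; exact mul_dvd_mul h32 e2
      obtain ⟨S⟩ : Nonempty (Sylow 2 (Matrix.ProjectiveSpecialLinearGroup (Fin 2) F)) := inferInstance
      obtain ⟨n, hn3, ⟨f⟩⟩ := Cfsg.Lib.FusionSys.Lin.sylow_psl_two_equiv_dihedral (by rw [hqdef]; exact hodd)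
        (by rw [hqdef]; exact dvd_trans (by norm_num) h64) S
      have hdvd : 32 ∣ Nat.card (Matrix.ProjectiveSpecialLinearGroup (Fin 2) F) := by
        have e3 : 2 * Nat.card (Matrix.ProjectiveSpecialLinearGroup (Fin 2) F) = q * (q ^ 2 - 1) := by
          rw [← hcard]
          have : q * q ^ 2 = q ^ 3 := by ring
          rw [Nat.mul_sub, mul_one, this]
          omega
        have h' : 64 ∣ 2 * Nat.card (Matrix.ProjectiveSpecialLinearGroup (Fin 2) F) :=
          e3 ▸ Dvd.dvd.mul_left h64 q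
        omega
      have h2n : 32 ∣ 2 * n := by
        rw [← DihedralGroup.nat_card, ← Nat.card_congr f.toEquiv]
        rw [S.card_eq_multiplicity]
        exact pow_dvd_pow 2 (n := _) (m := 5)
          ((Nat.prime_two.pow_dvd_iff_le_factorization Nat.card_pos.ne').1 hdvd)
      obtain ⟨m, hm⟩ : 16 ∣ n := by omega
      have hord : orderOf ((DihedralGroup.r (1 : ZMod n)) ^ m) = 16 := by
        rw [orderOf_pow_of_dvd (by omega) (by rw [DihedralGroup.orderOf_r_one, hm]; exact dvd_mul_left m 16),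
          DihedralGroup.orderOf_r_one, hm, Nat.mul_div_cancel _ (by omega)]
      set w : G := e.symm ((f.symm ((DihedralGroup.r (1 : ZMod n)) ^ m) : _) : _) with hw
      have hwo : orderOf w = 16 := by
        rw [hw, MulEquiv.orderOf_eq, Subgroup.orderOf_coe, MulEquiv.orderOf_eq, hord]
      have hpow : ∀ i, i ∣ 16 → i ≠ 0 → orderOf (w ^ (16 / i)) = i := fun i hi hi0 => by
        rw [orderOf_pow_of_dvd (by
          intro h0; rcases Nat.div_eq_zero_iff.1 h0 with h' | h'
          · exact hi0 h'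
          · have := Nat.le_of_dvd (by norm_num) hi; omega) (by rw [hwo]; exact Nat.div_dvd_of_dvd hi), hwo,
          Nat.div_div_self hi (by norm_num)]
      set s : Finset G := ({2, 4, 8, 16} : Finset ℕ).image fun i => w ^ (16 / i) with hs
      have hmem : ∀ g ∈ s, ∃ i ∈ ({2, 4, 8, 16} : Finset ℕ), g = w ^ (16 / i) ∧ orderOf g = i := by
        intro g hg
        obtain ⟨i, hi, rfl⟩ := Finset.mem_image.1 hg
        refine ⟨i, hi, rfl, hpow i ?_ ?_⟩ <;>
          (simp only [Finset.mem_insert, Finset.mem_singleton] at hi; rcases hi with rfl | rfl | rfl | rfl) <;>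
          norm_num
      have hs4 : s.card = 4 := by
        rw [hs, Finset.card_image_of_injOn]
        · rfl
        · intro i hi i' hi' he
          have hd : ∀ i ∈ ({2, 4, 8, 16} : Finset ℕ), i ∣ 16 ∧ i ≠ 0 := by decide
          rw [← hpow i (hd i hi).1 (hd i hi).2, ← hpow i' (hd i' hi').1 (hd i' hi').2]
          exact congrArg orderOf he
      have := C.card_orders_le Fs s (fun g hg => by
        obtain ⟨i, hi, -, ho⟩ := hmem g hg
        refine C.off_of_even (ho.symm ▸ ?_)
        simp only [Finset.mem_insert, Finset.mem_singleton] at hi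
        rcases hi with rfl | rfl | rfl | rfl <;> norm_num) (fun g hg g' hg' he => by
        obtain ⟨i, -, rfl, ho⟩ := hmem g hg
        obtain ⟨i', -, rfl, ho'⟩ := hmem g' hg'
        rw [ho, ho'] at he
        exact Or.inl (by rw [he]))
      rw [hs4, C.V_empty Fs hna] at this
      omega
  · exfalso
    have hcard := Nat.card_congr e.toEquiv
    rw [Cfsg.Lib.Concrete.MTwentyOne.card_psl34 F hF] at hcard
    have h1 : C.N ∣ 2 ^ 6 * 315 := by
      have := C.N_dvd; rw [hcard] at this; exact this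
    have h2 : C.N ∣ 315 :=
      ((Nat.coprime_two_right.2 C.odd_N).pow_right 6).dvd_of_dvd_mul_left h1
    have := Nat.le_of_dvd (by norm_num) h2
    have := C.N_ge Fs
    omega
  · exact Cfsg.Lib.CIT.suzukiIso G hna hcit hS

end Cfg

end Cfsg.Lib.ThreeCC
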