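import Cfsg.Agent.Lib.Char.CAEven
import Cfsg.Agent.Lib.PGroup.Elements
import Cfsg.Agent.Lib.Invol.Basic

/-!
# Three strongly self-centralizing subgroups: group theory
-/

set_option autoImplicit false
set_option linter.unusedSectionVars false
set_option linter.style.haveILetI false
set_option maxHeartbeats 1000000

namespace Cfsg.Lib.ThreeCC

open Cfsg Cfsg.Lib.Char.CAEven Subgroup

universe u

/-- The orders of the quotients `N(A)/A`. -/
def idx : Fin 3 → ℕ := ![2, 4, 4]

theorem two_dvd_idx (i : Fin 3) : 2 ∣ idx i := by fin_cases i <;> decide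

/-- The hypotheses. -/
structure Cfg (G : Type u) [Group G] where
  /-- The subgroups. -/
  A : Fin 3 → Subgroup G
  hsc : ∀ i, ∀ a ∈ A i, a ≠ 1 → centralizer ({a} : Set G) = A i
  hnc : ∀ i j, ∀ g : G, (A i).map (MulAut.conj g).toMonoidHom = A j → i = j
  he : ∀ i, (A i).relIndex (normalizer (A i : Set G)) = idx i
  hn₁ : 5 ≤ Nat.card ↥(A 0)
  hn₂ : 5 < Nat.card ↥(A 1)
  hn₃ : 5 < Nat.card ↥(A 2)
  hord : Nat.card G ≤ 3 * Nat.card ↥(A 0) ^ 2 * Nat.card ↥(A 1) ^ 2 * Nat.card ↥(A 2) ^ 2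

variable {G : Type u} [Group G] [Finite G]

namespace Cfg

variable (C : Cfg G)

/-- The order of the `i`-th subgroup. -/
noncomputable def n (i : Fin 3) : ℕ := Nat.card ↥(C.A i)

theorem isCA (i : Fin 3) : IsCA (C.A i) := by
  refine ⟨fun a ha b hb => ?_, C.hsc i⟩
  by_cases ha1 : a = 1
  · rw [ha1, one_mul, mul_one]
  · have h : b ∈ centralizer ({a} : Set G) := by rw [C.hsc i a ha ha1]; exact hb
    exact (mem_centralizer_singleton_iff.1 h).symm

theorem five_le (i : Fin 3) : 5 ≤ C.n i := by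
  fin_cases i
  · exact C.hn₁
  · exact le_of_lt C.hn₂
  · exact le_of_lt C.hn₃

theorem exists_mem_ne_one (i : Fin 3) : ∃ a ∈ C.A i, a ≠ 1 := by
  refine (bot_or_exists_ne_one (C.A i)).resolve_left fun h => ?_
  have := C.five_le i
  rw [Cfg.n, h, Subgroup.card_bot] at this
  omega

/-- Conjugates of non-identity elements stay in their class of subgroups. -/
theorem eq_of_conj {i j : Fin 3} {g x : G} (hx : x ∈ C.A i) (hx1 : x ≠ 1) (hg : g * x * g⁻¹ ∈ C.A j) :
    i = j := by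
  refine C.hnc i j g ?_
  have hy1 : g * x * g⁻¹ ≠ 1 := fun e => hx1 (conj_eq_one_iff.1 e)
  ext y
  rw [Subgroup.mem_map]
  constructor
  · rintro ⟨a, ha, rfl⟩
    rw [← C.hsc j _ hg hy1, mem_centralizer_singleton_iff]
    rw [← C.hsc i x hx hx1, mem_centralizer_singleton_iff] at ha
    show g * a * g⁻¹ * (g * x * g⁻¹) = g * x * g⁻¹ * (g * a * g⁻¹)
    calc g * a * g⁻¹ * (g * x * g⁻¹) = g * (a * x) * g⁻¹ := by group
      _ = g * (x * a) * g⁻¹ := by rw [ha]
      _ = g * x * g⁻¹ * (g * a * g⁻¹) := by group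
  · intro hy
    refine ⟨g⁻¹ * y * g, ?_, show g * (g⁻¹ * y * g) * g⁻¹ = y by group⟩
    rw [← C.hsc j _ hg hy1, mem_centralizer_singleton_iff] at hy
    rw [← C.hsc i x hx hx1, mem_centralizer_singleton_iff]
    calc g⁻¹ * y * g * x = g⁻¹ * (y * (g * x * g⁻¹)) * g := by group
      _ = g⁻¹ * (g * x * g⁻¹ * y) * g := by rw [hy]
      _ = x * (g⁻¹ * y * g) := by group

/-- A subgroup contains a Sylow subgroup for each prime divisor of its order. -/
theorem not_dvd_index (i : Fin 3) {p : ℕ} (hp : p.Prime) (hd : p ∣ C.n i) : ¬ p ∣ (C.A i).index := by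
  haveI := Fact.mk hp
  obtain ⟨x, hx⟩ := exists_prime_orderOf_dvd_card' (G := ↥(C.A i)) p hd
  have hxo : orderOf (x : G) = p := by rwa [orderOf_coe]
  have hx1 : (x : G) ≠ 1 := fun e => hp.ne_one (by rw [← hxo, e, orderOf_one])
  obtain ⟨Q, hQ⟩ := (IsPGroup.of_card (n := 1) (by rw [Nat.card_zpowers, hxo, pow_one]) :
    IsPGroup p (zpowers (x : G))).exists_le_sylow
  have hxQ : (x : G) ∈ (Q : Subgroup G) := hQ (mem_zpowers _)
  haveI : Nontrivial ↥(Q : Subgroup G) := (nontrivial_iff_ne_bot _).2 fun e => hx1 (by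
    rw [e, mem_bot] at hxQ; exact hxQ)
  haveI := IsPGroup.center_nontrivial Q.2
  obtain ⟨⟨c, hc⟩, hc1⟩ := exists_ne (1 : center ↥(Q : Subgroup G))
  have hcm : ∀ q ∈ (Q : Subgroup G), q * (c : G) = c * q := fun q hq =>
    congrArg Subtype.val (mem_center_iff.1 hc ⟨q, hq⟩)
  have hcA : (c : G) ∈ C.A i := by
    rw [← C.hsc i x x.2 hx1, mem_centralizer_singleton_iff]
    exact (hcm x hxQ).symm
  have hc1' : (c : G) ≠ 1 := fun e => hc1 (Subtype.ext (Subtype.ext e))
  have hle : (Q : Subgroup G) ≤ C.A i := by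
    intro q hq
    rw [← C.hsc i c hcA hc1', mem_centralizer_singleton_iff]
    exact hcm q hq
  exact fun h => Q.not_dvd_index (h.trans (index_dvd_of_le hle))

theorem coprime_index (i : Fin 3) : (C.n i).Coprime (C.A i).index :=
  Nat.coprime_of_dvd' fun _ hp h1 h2 => absurd h2 (C.not_dvd_index i hp h1)

theorem odd_n (i : Fin 3) : Odd (C.n i) := by
  rw [← Nat.not_even_iff_odd, even_iff_two_dvd]
  intro h
  refine C.not_dvd_index i Nat.prime_two h ((two_dvd_idx i).trans ?_)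
  rw [← C.he i, ← Subgroup.relIndex_mul_index (le_normalizer (H := C.A i))]
  exact Dvd.intro _ rfl

theorem coprime_n {i j : Fin 3} (hij : i ≠ j) : (C.n i).Coprime (C.n j) := by
  refine Nat.coprime_of_dvd fun p hp h1 h2 => hij ?_
  haveI := Fact.mk hp
  obtain ⟨x, hx⟩ := exists_prime_orderOf_dvd_card' (G := ↥(C.A i)) p h1
  have hxo : orderOf (x : G) = p := by rwa [orderOf_coe]
  have hx1 : (x : G) ≠ 1 := fun e => hp.ne_one (by rw [← hxo, e, orderOf_one])
  obtain ⟨Q, hQ⟩ := (IsPGroup.of_card (n := 1) (by rw [Nat.card_zpowers, hxo, pow_one]) :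
    IsPGroup p (zpowers (x : G))).exists_le_sylow
  obtain ⟨R⟩ : Nonempty (Sylow p ↥(C.A j)) := inferInstance
  obtain ⟨R', hR'⟩ := (R.2.map (C.A j).subtype).exists_le_sylow
  have hR'le : (R' : Subgroup G) ≤ C.A j := by
    intro y hy
    have hcard : Nat.card ↥((R : Subgroup ↥(C.A j)).map (C.A j).subtype) = Nat.card ↥(R' : Subgroup G) := by
      rw [Subgroup.card_map_of_injective (C.A j).subtype_injective, R.card_eq_multiplicity,
        R'.card_eq_multiplicity]
      congr 1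
      have hidx := C.not_dvd_index j hp h2
      rw [← Subgroup.card_mul_index (C.A j), Nat.factorization_mul Nat.card_pos.ne'
        (index_ne_zero_of_finite), Finsupp.add_apply, Nat.factorization_eq_zero_of_not_dvd hidx, add_zero]
    rw [← Subgroup.eq_of_le_of_card_ge hR' hcard.ge] at hy
    obtain ⟨z, -, rfl⟩ := hy
    exact z.2
  obtain ⟨g, hg⟩ := MulAction.exists_smul_eq G Q R'
  have hmem : g * (x : G) * g⁻¹ ∈ C.A j := hR'le (by
    rw [← hg, Sylow.coe_subgroup_smul, Subgroup.mem_pointwise_smul_iff_inv_smul_mem]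
    simpa [MulAut.smul_def, mul_assoc] using hQ (mem_zpowers (x : G)))
  exact C.eq_of_conj x.2 hx1 hmem

/-- The product of the three orders. -/
noncomputable def N : ℕ := C.n 0 * C.n 1 * C.n 2

/-- The cofactor. -/
noncomputable def K : ℕ := Nat.card G / C.N

theorem dvd_card (i : Fin 3) : C.n i ∣ Nat.card G := card_subgroup_dvd_card _

theorem N_dvd : C.N ∣ Nat.card G :=
  Nat.Coprime.mul_dvd_of_dvd_of_dvd
    (Nat.Coprime.mul_left (C.coprime_n (by decide)) (C.coprime_n (by decide)))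
    (Nat.Coprime.mul_dvd_of_dvd_of_dvd (C.coprime_n (by decide)) (C.dvd_card 0) (C.dvd_card 1)) (C.dvd_card 2)

theorem N_mul_K : C.N * C.K = Nat.card G := Nat.mul_div_cancel' C.N_dvd

theorem N_pos : 0 < C.N := by
  have h0 := C.five_le 0; have h1 := C.five_le 1; have h2 := C.five_le 2
  unfold Cfg.N; positivity

theorem K_le : C.K ≤ 3 * C.N := by
  refine Nat.le_of_mul_le_mul_left ?_ C.N_pos
  rw [C.N_mul_K]
  calc Nat.card G ≤ _ := C.hord
    _ = C.N * (3 * C.N) := by unfold Cfg.N Cfg.n; ring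

theorem coprime_K (i : Fin 3) : (C.n i).Coprime C.K := by
  refine (C.coprime_index i).coprime_dvd_right ?_
  have h1 : C.n i * (C.A i).index = C.N * C.K := by rw [C.N_mul_K]; exact Subgroup.card_mul_index _
  have hd : ∀ j : Fin 3, ∃ r, C.N = C.n j * r := by
    rw [Fin.forall_fin_succ, Fin.forall_fin_succ, Fin.forall_fin_one]
    exact ⟨⟨C.n 1 * C.n 2, by unfold Cfg.N; ring⟩, ⟨C.n 0 * C.n 2, by
      show C.N = C.n 1 * _; unfold Cfg.N; ring⟩, ⟨C.n 0 * C.n 1, by
      show C.N = C.n 2 * _; unfold Cfg.N; ring⟩⟩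
  obtain ⟨r, hr⟩ := hd i
  refine ⟨r, Nat.eq_of_mul_eq_mul_left (Nat.lt_of_lt_of_le (by norm_num) (C.five_le i)) ?_⟩
  rw [h1, hr]; ring

/-- An element whose conjugates avoid the three subgroups. -/
def Off (g : G) : Prop := g ≠ 1 ∧ ∀ i, ∀ x : G, x * g * x⁻¹ ∉ C.A i

theorem Off.conj {g : G} (h : C.Off g) (y : G) : C.Off (y * g * y⁻¹) := by
  refine ⟨fun e => h.1 (conj_eq_one_iff.1 e), fun i x hx => h.2 i (x * y) ?_⟩
  rwa [show x * y * g * (x * y)⁻¹ = x * (y * g * y⁻¹) * x⁻¹ by group]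

/-- An element of even order avoids the three subgroups. -/
theorem off_of_even {g : G} (h : 2 ∣ orderOf g) : C.Off g := by
  refine ⟨fun e => by rw [e, orderOf_one] at h; omega, fun i x hx => ?_⟩
  have h1 : orderOf (x * g * x⁻¹) ∣ C.n i := Subgroup.orderOf_dvd_natCard _ hx
  rw [Invol.orderOf_conj_eq] at h1
  exact (Nat.not_even_iff_odd.2 (C.odd_n i)) (even_iff_two_dvd.2 (h.trans h1))

/-- The centralizer of an element off the subgroups has order prime to their orders. -/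
theorem Off.coprime_centralizer {g : G} (h : C.Off g) (i : Fin 3) :
    (C.n i).Coprime (Nat.card ↥(centralizer ({g} : Set G))) := by
  refine Nat.coprime_of_dvd fun p hp h1 h2 => ?_
  haveI := Fact.mk hp
  obtain ⟨⟨v, hv⟩, hvo⟩ := exists_prime_orderOf_dvd_card' (G := ↥(centralizer ({g} : Set G))) p h2
  rw [orderOf_mk] at hvo
  obtain ⟨Q, hQ⟩ := (IsPGroup.of_card (n := 1) (by rw [Nat.card_zpowers, hvo, pow_one]) :
    IsPGroup p (zpowers v)).exists_le_sylow
  obtain ⟨x, hx⟩ := exists_prime_orderOf_dvd_card' (G := ↥(C.A i)) p h1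
  have hxo : orderOf (x : G) = p := by rwa [orderOf_coe]
  have hx1 : (x : G) ≠ 1 := fun e => hp.ne_one (by rw [← hxo, e, orderOf_one])
  obtain ⟨R, hR⟩ := (IsPGroup.of_card (n := 1) (by rw [Nat.card_zpowers, hxo, pow_one]) :
    IsPGroup p (zpowers (x : G))).exists_le_sylow
  have hRA : (R : Subgroup G) ≤ C.A i := by
    haveI : Nontrivial ↥(R : Subgroup G) := (nontrivial_iff_ne_bot _).2 fun e => hx1 (by
      have := hR (mem_zpowers (x : G)); rw [e, mem_bot] at this; exact this)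
    haveI := IsPGroup.center_nontrivial R.2
    obtain ⟨⟨c, hc⟩, hc1⟩ := exists_ne (1 : center ↥(R : Subgroup G))
    have hcm : ∀ q ∈ (R : Subgroup G), q * (c : G) = c * q := fun q hq =>
      congrArg Subtype.val (mem_center_iff.1 hc ⟨q, hq⟩)
    have hcA : (c : G) ∈ C.A i := by
      rw [← C.hsc i x x.2 hx1, mem_centralizer_singleton_iff]
      exact (hcm x (hR (mem_zpowers _))).symm
    intro q hq
    rw [← C.hsc i c hcA fun e => hc1 (Subtype.ext (Subtype.ext e)), mem_centralizer_singleton_iff]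
    exact hcm q hq
  obtain ⟨a, ha⟩ := MulAction.exists_smul_eq G Q R
  have hmem : a * v * a⁻¹ ∈ C.A i := hRA (by
    rw [← ha, Sylow.coe_subgroup_smul, Subgroup.mem_pointwise_smul_iff_inv_smul_mem]
    simpa [MulAut.smul_def, mul_assoc] using hQ (mem_zpowers v))
  have hv1 : a * v * a⁻¹ ≠ 1 := fun e => hp.ne_one (by
    rw [← hvo, conj_eq_one_iff.1 e, orderOf_one])
  refine h.2 i a ?_
  rw [← C.hsc i _ hmem hv1, mem_centralizer_singleton_iff]
  have hc : v * g = g * v := mem_centralizer_singleton_iff.1 hv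
  calc a * g * a⁻¹ * (a * v * a⁻¹) = a * (g * v) * a⁻¹ := by group
    _ = a * (v * g) * a⁻¹ := by rw [hc]
    _ = a * v * a⁻¹ * (a * g * a⁻¹) := by group

end Cfg

end Cfsg.Lib.ThreeCC
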