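import Cfsg.Agent.Lib.ThreeCC.Count
import Cfsg.Agent.Lib.Char.FeitZassenhaus

/-!
# The degrees of the characters
-/

set_option autoImplicit false
set_option linter.unusedSectionVars false
set_option linter.style.haveILetI false
set_option maxHeartbeats 1000000

namespace Cfsg.Lib.ThreeCC

open Cfsg Cfsg.Lib.Char Subgroup
open scoped ComplexConjugate

universe u

variable {G : Type u} [Group G] [Fintype G]

/-- The degree of a character. -/
noncomputable def deg (χ : IrrCharacter G) : ℕ := χ.2.exists_degree.choose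

theorem deg_pos (χ : IrrCharacter G) : 0 < deg χ := χ.2.exists_degree.choose_spec.1

theorem apply_one_eq_deg (χ : IrrCharacter G) : (χ : G → ℂ) 1 = (deg χ : ℂ) :=
  χ.2.exists_degree.choose_spec.2

theorem centralizer_one_eq : centralizer ({(1 : G)} : Set G) = ⊤ :=
  eq_top_iff.2 fun g _ => by rw [mem_centralizer_singleton_iff]; simp

theorem sum_deg_sq : ∑ χ : IrrCharacter G, deg χ ^ 2 = Nat.card G := by
  classical
  have h := column_orthogonality (1 : G) 1
  rw [if_pos (IsConj.refl 1), centralizer_one_eq, Subgroup.card_top] at h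
  simp only [apply_one_eq_deg, map_natCast] at h
  have h' : ((∑ χ : IrrCharacter G, deg χ ^ 2 : ℕ) : ℂ) = (Nat.card G : ℂ) := by
    rw [← h]; push_cast; simp only [sq]
  exact_mod_cast h'

/-- Frobenius and Schur: the solutions of `x * x = 1` are at most the sum of the degrees. -/
theorem one_add_involutions_le :
    1 + Nat.card {t : G // orderOf t = 2} ≤ ∑ χ : IrrCharacter G, deg χ := by
  classical
  set s : Finset G := Finset.univ.filter fun x => x * x = 1 with hs
  have hcard : 1 + Nat.card {t : G // orderOf t = 2} = s.card := by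
    rw [Nat.card_eq_fintype_card, Fintype.card_subtype,
      ← Finset.card_erase_add_one (show (1 : G) ∈ s by simp [hs]), add_comm]
    congr 2
    ext x
    simp only [hs, Finset.mem_erase, Finset.mem_filter, Finset.mem_univ, true_and]
    exact ⟨fun h => ⟨Invol.ne_one h, Invol.inv_mul_self h⟩, fun h => Invol.orderOf_eq_two_of h.1 h.2⟩
  have hsum : ∑ χ : IrrCharacter G, (χ : G → ℂ) 1 * ∑ x, (χ : G → ℂ) (x * x) =
      (s.card : ℂ) * Nat.card G := by
    have h : ∀ x : G, ∑ χ : IrrCharacter G, (χ : G → ℂ) 1 * (χ : G → ℂ) (x * x) =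
        if x * x = 1 then (Nat.card G : ℂ) else 0 := by
      intro x
      have h := column_orthogonality (x * x) (1 : G)
      simp only [apply_one_eq_deg, map_natCast] at h
      simp only [apply_one_eq_deg]
      rw [Finset.sum_congr rfl fun χ _ => mul_comm _ _, h]
      by_cases hx : x * x = 1
      · rw [if_pos hx, hx, if_pos (IsConj.refl 1), centralizer_one_eq, Subgroup.card_top]
      · rw [if_neg hx, if_neg fun e => hx (isConj_one_left.1 e)]
    simp only [Finset.mul_sum]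
    rw [Finset.sum_comm, Finset.sum_congr rfl fun x _ => h x, ← Finset.sum_filter, ← hs,
      Finset.sum_const, nsmul_eq_mul]
  have hre : ((s.card : ℂ) * Nat.card G).re ≤ ∑ χ : IrrCharacter G, (deg χ : ℝ) * Nat.card G := by
    rw [← hsum, Complex.re_sum]
    refine Finset.sum_le_sum fun χ _ => (indicator_re_le χ.2).trans (le_of_eq ?_)
    rw [apply_one_eq_deg, Complex.natCast_re]
  rw [← Finset.sum_mul] at hre
  have h1 : ((s.card * Nat.card G : ℕ) : ℝ) ≤ ((∑ χ : IrrCharacter G, deg χ) * Nat.card G : ℕ) := by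
    push_cast
    simpa using hre
  rw [hcard]
  exact Nat.le_of_mul_le_mul_right (Nat.cast_le.1 h1) Nat.card_pos

namespace Cfg

variable (C : Cfg G)

theorem dvd_deg (i : Fin 3) {χ : IrrCharacter G} (h : ∀ a ∈ C.A i, a ≠ 1 → (χ : G → ℂ) a = 0) :
    C.n i ∣ deg χ := by
  classical
  haveI : Fintype ↥(C.A i) := Fintype.ofFinite _
  obtain ⟨z, hz⟩ := (χ.2.isGeneralized.comp (C.A i).subtype).exists_int_classInner
    (isIrrCharacter_one (G := ↥(C.A i))).isGeneralized
  rw [classInner, Finset.sum_eq_single 1] at hz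
  · simp only [map_one, mul_one, apply_one_eq_deg] at hz
    have hn : (Nat.card ↥(C.A i) : ℂ) ≠ 0 := Nat.cast_ne_zero.mpr Nat.card_pos.ne'
    rw [inv_mul_eq_iff_eq_mul₀ hn] at hz
    rw [← Int.natCast_dvd_natCast]
    exact ⟨z, by exact_mod_cast hz⟩
  · intro b _ hb
    simp only [Subgroup.coe_subtype]
    rw [h b b.2 fun e => hb (Subtype.ext e), zero_mul]
  · exact fun hn => absurd (Finset.mem_univ _) hn

theorem N_dvd_deg {χ : IrrCharacter G} (h : χ ∈ C.V) : C.N ∣ deg χ :=
  Nat.Coprime.mul_dvd_of_dvd_of_dvd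
    (Nat.Coprime.mul_left (C.coprime_n (by decide)) (C.coprime_n (by decide)))
    (Nat.Coprime.mul_dvd_of_dvd_of_dvd (C.coprime_n (by decide)) (C.dvd_deg 0 (C.mem_V.1 h 0))
      (C.dvd_deg 1 (C.mem_V.1 h 1))) (C.dvd_deg 2 (C.mem_V.1 h 2))

theorem one_notMem_V : C.one ∉ C.V := fun h => by
  obtain ⟨a, ha, ha1⟩ := C.exists_mem_ne_one 0
  exact one_ne_zero (C.mem_V.1 h 0 a ha ha1)

theorem deg_one : deg C.one = 1 := by
  have h : (1 : ℂ) = (deg C.one : ℂ) := apply_one_eq_deg C.one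
  exact_mod_cast h.symm

theorem card_V_lt : C.V.card * C.N < C.K := by
  classical
  have h := sum_deg_sq (G := G)
  rw [← Finset.add_sum_erase _ _ (Finset.mem_univ C.one), C.deg_one] at h
  have hsub : C.V ⊆ (Finset.univ : Finset (IrrCharacter G)).erase C.one := fun χ hχ =>
    Finset.mem_erase.2 ⟨fun e => C.one_notMem_V (e ▸ hχ), Finset.mem_univ _⟩
  have h1 : ∀ χ ∈ C.V, C.N * C.N ≤ deg χ ^ 2 := fun χ hχ => by
    rw [sq]
    exact Nat.mul_le_mul (Nat.le_of_dvd (deg_pos χ) (C.N_dvd_deg hχ))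
      (Nat.le_of_dvd (deg_pos χ) (C.N_dvd_deg hχ))
  have h2 := (Finset.card_nsmul_le_sum _ _ _ h1).trans
    (Finset.sum_le_sum_of_subset (f := fun χ => deg χ ^ 2) hsub)
  rw [smul_eq_mul] at h2
  refine Nat.lt_of_mul_lt_mul_left (a := C.N) ?_
  rw [C.N_mul_K, ← mul_left_comm]
  omega

theorem card_V_le : C.V.card ≤ 2 := by
  have h1 := C.card_V_lt
  have h2 := C.K_le
  by_contra hc
  have : 3 * C.N ≤ C.V.card * C.N := Nat.mul_le_mul_right _ (by omega)
  omega

theorem deg_V_eq {χ : IrrCharacter G} (h : χ ∈ C.V) : deg χ = C.N := by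
  obtain ⟨r, hr⟩ := C.N_dvd_deg h
  have h1 : deg χ ^ 2 ≤ Nat.card G := by
    rw [← sum_deg_sq]
    exact Finset.single_le_sum (f := fun ψ => deg ψ ^ 2) (fun _ _ => Nat.zero_le _) (Finset.mem_univ χ)
  rw [← C.N_mul_K] at h1
  have h2 := C.K_le
  have h3 := deg_pos χ
  rw [hr, mul_pow, sq C.N, mul_assoc] at h1
  have h4 := Nat.le_of_mul_le_mul_left h1 C.N_pos
  rcases Nat.lt_or_ge r 2 with hr2 | hr2
  · rcases Nat.eq_zero_or_pos r with h0 | h0
    · rw [hr, h0, mul_zero] at h3; omega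
    · rw [hr, show r = 1 by omega, mul_one]
  · exfalso
    have : C.N * (2 * 2) ≤ C.N * r ^ 2 := Nat.mul_le_mul_left _ (by rw [sq]; exact Nat.mul_le_mul hr2 hr2)
    have := C.N_pos
    omega

variable (Fs : ∀ i, Fam (C.A i) (idx i))

include Fs in
/-- The bound from the degree sum. -/
theorem sum_bound : ∀ (y : ℕ), y + C.V.card * C.N ≤ C.I + 1 →
    y * y + C.V.card * (C.M Fs + 4) * (C.N * C.N) ≤ (C.M Fs + 4) * Nat.card G := by
  classical
  intro y hy
  set s := (Finset.univ : Finset (IrrCharacter G)) \ C.V with hs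
  have hs1 : ∑ χ ∈ s, deg χ + C.V.card * C.N = ∑ χ : IrrCharacter G, deg χ := by
    rw [← Finset.sum_sdiff (Finset.subset_univ C.V), Finset.sum_congr rfl fun χ hχ => C.deg_V_eq hχ,
      Finset.sum_const, smul_eq_mul]
  have hs2 : ∑ χ ∈ s, deg χ ^ 2 + C.V.card * (C.N * C.N) = Nat.card G := by
    rw [← sum_deg_sq, ← Finset.sum_sdiff (Finset.subset_univ C.V),
      Finset.sum_congr rfl fun χ (hχ : χ ∈ C.V) => congrArg (· ^ 2) (C.deg_V_eq hχ),
      Finset.sum_const, smul_eq_mul, sq]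
  have hcard : s.card ≤ C.M Fs + 4 := by
    have h := C.card_le Fs
    rw [hs, Finset.card_univ_sdiff]
    omega
  have hy' : y ≤ ∑ χ ∈ s, deg χ := by
    have := one_add_involutions_le (G := G)
    unfold Cfg.I at hy
    omega
  have hCS : (∑ χ ∈ s, deg χ) ^ 2 ≤ s.card * ∑ χ ∈ s, deg χ ^ 2 := sq_sum_le_card_mul_sum_sq
  have h5 : y * y ≤ (C.M Fs + 4) * ∑ χ ∈ s, deg χ ^ 2 :=
    calc y * y ≤ (∑ χ ∈ s, deg χ) ^ 2 := by rw [sq]; exact Nat.mul_le_mul hy' hy'
      _ ≤ _ := hCS
      _ ≤ _ := Nat.mul_le_mul_right _ hcard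
  calc _ ≤ (C.M Fs + 4) * ∑ χ ∈ s, deg χ ^ 2 + C.V.card * (C.M Fs + 4) * (C.N * C.N) :=
        Nat.add_le_add_right h5 _
    _ = (C.M Fs + 4) * Nat.card G := by rw [← hs2]; ring

end Cfg

end Cfsg.Lib.ThreeCC
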